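import Groth.Agent.CAlg.K67.CokerProj
import Groth.Agent.Ega3A.FiberRank
import Mathlib.Algebra.Category.ModuleCat.ChangeOfRings
import Mathlib.Algebra.Homology.ShortComplex.ModuleCat
import Mathlib.Algebra.Homology.HomologicalComplex
import Mathlib.Algebra.Homology.ShortComplex.HomologicalComplex
import Mathlib.Algebra.Homology.Additive
import Mathlib.LinearAlgebra.FiniteDimensional.Lemmas
import Mathlib.RingTheory.Spectrum.Prime.Topology

/-!
# Betti numbers of complexes of finite free modules

* `extEquiv`: `B ⊗[A] M ≃ₗ[B] (extendScalars (algebraMap A B)).obj M`, with naturality.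
* `finrank_homology_extend`: the Betti number of the fibre of a complex in terms of ranks.
* `homology_finite_projective`: if `Coker d^{i-1}` and `Coker d^i` are projective so is `H^i`.
-/

set_option autoImplicit false

universe u

open CategoryTheory TensorProduct

namespace K67.Betti

section ext

variable (A B : Type u) [CommRing A] [CommRing B] [Algebra A B]

open scoped ChangeOfRings

set_option backward.isDefEq.respectTransparency false in
/-- `B ⊗_A M` is the extension of scalars of `M`. -/
noncomputable def extEquiv (M : ModuleCat.{u} A) :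
    B ⊗[A] M ≃ₗ[B] (ModuleCat.extendScalars.{u, u, u} (algebraMap A B)).obj M :=
  let e₁ : B ≃ₗ[A] ((ModuleCat.restrictScalars (algebraMap A B)).obj (ModuleCat.of B B)) :=
    { toFun := fun b => b
      invFun := fun b => b
      left_inv := fun _ => rfl
      right_inv := fun _ => rfl
      map_add' := fun _ _ => rfl
      map_smul' := fun a b => by rw [Algebra.smul_def]; rfl }
  let e₂ := TensorProduct.congr e₁ (LinearEquiv.refl A M)
  { toFun := fun t => e₂ t
    invFun := fun t => e₂.symm t
    left_inv := e₂.left_inv
    right_inv := e₂.right_inv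
    map_add' := e₂.map_add
    map_smul' := fun b t => by
      induction t using TensorProduct.induction_on with
      | zero => rw [smul_zero, map_zero, smul_zero]
      | tmul b' m => rfl
      | add x y hx hy =>
        rw [smul_add, map_add, hx, hy, map_add, smul_add] }

lemma extEquiv_tmul (M : ModuleCat.{u} A) (b : B) (m : M) :
    extEquiv A B M (b ⊗ₜ m) = b ⊗ₜ[A, algebraMap A B] m := rfl

lemma extEquiv_naturality {M N : ModuleCat.{u} A} (f : M ⟶ N) (z : B ⊗[A] M) :
    ((ModuleCat.extendScalars.{u, u, u} (algebraMap A B)).map f).hom (extEquiv A B M z) =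
      extEquiv A B N (f.hom.baseChange B z) := by
  induction z with
  | zero => simp
  | tmul b m => rfl
  | add x y hx hy => rw [map_add, map_add, hx, hy, map_add, map_add]

lemma finrank_range_extend {K : Type u} [Field K] [Algebra A K] {M N : ModuleCat.{u} A}
    (f : M ⟶ N) :
    Module.finrank K (LinearMap.range
      ((ModuleCat.extendScalars.{u, u, u} (algebraMap A K)).map f).hom) =
      Module.finrank K (LinearMap.range (f.hom.baseChange K)) := by
  have h : LinearMap.range ((ModuleCat.extendScalars.{u, u, u} (algebraMap A K)).map f).hom =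
      (LinearMap.range (f.hom.baseChange K)).map (extEquiv A K N).toLinearMap := by
    rw [← LinearMap.range_comp]
    ext x
    constructor
    · rintro ⟨y, rfl⟩
      refine ⟨(extEquiv A K M).symm y, ?_⟩
      have := extEquiv_naturality A K f ((extEquiv A K M).symm y)
      rw [LinearEquiv.apply_symm_apply] at this
      exact this.symm
    · rintro ⟨y, rfl⟩
      exact ⟨extEquiv A K M y, extEquiv_naturality A K f y⟩
  rw [h]
  exact (LinearEquiv.finrank_map_eq _ _)

end ext

section Linear

universe v w
variable {K : Type v} [Field K]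

lemma finrank_homology (S : ShortComplex (ModuleCat.{w} K)) [FiniteDimensional K S.X₂] :
    Module.finrank K S.homology + Module.finrank K (LinearMap.range S.f.hom) +
      Module.finrank K (LinearMap.range S.g.hom) = Module.finrank K S.X₂ := by
  have e : S.homology ≃ₗ[K] (LinearMap.ker S.g.hom ⧸ LinearMap.range S.moduleCatToCycles) :=
    S.moduleCatHomologyIso.toLinearEquiv
  rw [e.finrank_eq]
  have h1 : Module.finrank K (LinearMap.ker S.g.hom ⧸ LinearMap.range S.moduleCatToCycles) +
      Module.finrank K (LinearMap.range S.moduleCatToCycles) =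
        Module.finrank K (LinearMap.ker S.g.hom) :=
    Submodule.finrank_quotient_add_finrank _
  have h2 := LinearMap.finrank_range_add_finrank_ker S.g.hom
  have h3 : Module.finrank K (LinearMap.range S.moduleCatToCycles) =
      Module.finrank K (LinearMap.range S.f.hom) := by
    have : LinearMap.range S.f.hom =
        (LinearMap.range S.moduleCatToCycles).map (LinearMap.ker S.g.hom).subtype := by
      rw [← LinearMap.range_comp]
      rfl
    rw [this]
    exact (LinearEquiv.finrank_eq (Submodule.equivMapOfInjective _
      (Submodule.subtype_injective _) _))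
  omega

lemma finrank_homology_cx (N : CochainComplex (ModuleCat.{w} K) ℤ) (i : ℤ)
    [FiniteDimensional K (N.X i)] :
    Module.finrank K (N.homology i) + Module.finrank K (LinearMap.range (N.d (i - 1) i).hom) +
      Module.finrank K (LinearMap.range (N.d i (i + 1)).hom) = Module.finrank K (N.X i) := by
  let e : (N.sc' (i - 1) i (i + 1)).homology ≃ₗ[K] N.homology i :=
    (N.homologyIsoSc' (i - 1) i (i + 1) (by simp) (by simp)).symm.toLinearEquiv
  rw [← e.finrank_eq]
  have : FiniteDimensional K (N.sc' (i - 1) i (i + 1)).X₂ := inferInstanceAs (FiniteDimensional K (N.X i))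
  exact finrank_homology (N.sc' (i - 1) i (i + 1))

end Linear

section Retract

variable {R : Type u} [CommRing R]

/-- the homology of a short complex with projective cokernels -/
theorem sc_finite_projective (S : ShortComplex (ModuleCat.{u} R)) [Module.Finite R S.X₂]
    [Module.Projective R S.X₂] [Module.Projective R S.X₃]
    [Module.Projective R (S.X₂ ⧸ LinearMap.range S.f.hom)]
    [Module.Projective R (S.X₃ ⧸ LinearMap.range S.g.hom)] :
    Module.Finite R S.homology ∧ Module.Projective R S.homology := by
  have e : S.homology ≃ₗ[R] (LinearMap.ker S.g.hom ⧸ LinearMap.range S.moduleCatToCycles) :=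
    S.moduleCatHomologyIso.toLinearEquiv
  obtain ⟨h, hh⟩ := CokerProj.exists_quasiInverse S.g.hom
  let r0 : S.X₂ →ₗ[R] LinearMap.ker S.g.hom := (LinearMap.id - h ∘ₗ S.g.hom).codRestrict _
    (fun x => by
      have := LinearMap.congr_fun hh x
      simp only [LinearMap.comp_apply] at this
      rw [LinearMap.mem_ker]
      simp [this])
  have hr0 : ∀ x : LinearMap.ker S.g.hom, r0 x = x := by
    intro x
    apply Subtype.ext
    have : S.g.hom (x : S.X₂) = 0 := x.2
    simp [r0, this]
  have hf : ∀ y, S.g.hom (S.f.hom y) = 0 := fun y => by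
    have := congrArg (fun f => f.hom y) S.zero
    simpa using this
  let r : (S.X₂ ⧸ LinearMap.range S.f.hom) →ₗ[R]
      (LinearMap.ker S.g.hom ⧸ LinearMap.range S.moduleCatToCycles) :=
    Submodule.mapQ _ _ r0 (by
      rintro _ ⟨y, rfl⟩
      refine ⟨y, ?_⟩
      exact (hr0 ⟨S.f.hom y, hf y⟩).symm)
  let i : (LinearMap.ker S.g.hom ⧸ LinearMap.range S.moduleCatToCycles) →ₗ[R]
      (S.X₂ ⧸ LinearMap.range S.f.hom) :=
    Submodule.mapQ _ _ (LinearMap.ker S.g.hom).subtype (by
      rintro _ ⟨y, rfl⟩
      exact ⟨y, rfl⟩)
  have hri : r ∘ₗ i = LinearMap.id := by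
    apply Submodule.linearMap_qext
    ext1 x
    simp only [LinearMap.comp_apply, r, i, Submodule.mkQ_apply, Submodule.mapQ_apply,
      Submodule.subtype_apply, hr0, LinearMap.id_apply]
  have h1 : Module.Projective R (LinearMap.ker S.g.hom ⧸ LinearMap.range S.moduleCatToCycles) :=
    Module.Projective.of_split i r hri
  have h2 : Module.Finite R (LinearMap.ker S.g.hom ⧸ LinearMap.range S.moduleCatToCycles) :=
    Module.Finite.of_surjective r (fun x => ⟨i x, LinearMap.congr_fun hri x⟩)
  exact ⟨Module.Finite.equiv e.symm, Module.Projective.of_equiv e.symm⟩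

theorem homology_finite_projective (P : CochainComplex (ModuleCat.{u} R) ℤ) (i : ℤ)
    [Module.Finite R (P.X i)] [Module.Projective R (P.X i)] [Module.Projective R (P.X (i + 1))]
    [Module.Projective R (P.X i ⧸ LinearMap.range (P.d (i - 1) i).hom)]
    [Module.Projective R (P.X (i + 1) ⧸ LinearMap.range (P.d i (i + 1)).hom)] :
    Module.Finite R (P.homology i) ∧ Module.Projective R (P.homology i) := by
  let e : (P.sc' (i - 1) i (i + 1)).homology ≃ₗ[R] P.homology i :=
    (P.homologyIsoSc' (i - 1) i (i + 1) (by simp) (by simp)).symm.toLinearEquiv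
  have h : Module.Finite R (P.sc' (i - 1) i (i + 1)).homology ∧
      Module.Projective R (P.sc' (i - 1) i (i + 1)).homology := by
    haveI : Module.Finite R (P.sc' (i - 1) i (i + 1)).X₂ := inferInstanceAs (Module.Finite R (P.X i))
    haveI : Module.Projective R (P.sc' (i - 1) i (i + 1)).X₂ :=
      inferInstanceAs (Module.Projective R (P.X i))
    haveI : Module.Projective R (P.sc' (i - 1) i (i + 1)).X₃ :=
      inferInstanceAs (Module.Projective R (P.X (i + 1)))
    haveI : Module.Projective R ((P.sc' (i - 1) i (i + 1)).X₂ ⧸
        LinearMap.range (P.sc' (i - 1) i (i + 1)).f.hom) :=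
      inferInstanceAs (Module.Projective R (P.X i ⧸ LinearMap.range (P.d (i - 1) i).hom))
    haveI : Module.Projective R ((P.sc' (i - 1) i (i + 1)).X₃ ⧸
        LinearMap.range (P.sc' (i - 1) i (i + 1)).g.hom) :=
      inferInstanceAs (Module.Projective R (P.X (i + 1) ⧸ LinearMap.range (P.d i (i + 1)).hom))
    exact sc_finite_projective (P.sc' (i - 1) i (i + 1))
  haveI := h.1
  haveI := h.2
  exact ⟨Module.Finite.equiv e, Module.Projective.of_equiv e⟩

end Retract

section Fibre

open Groth.Agent.Ega3A.FiberRank

variable {R : Type u} [CommRing R]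

/-- fibre dimension of the cokernel -/
theorem fiberRank_coker {M N : Type u} [AddCommGroup M] [Module R M] [AddCommGroup N] [Module R N]
    [Module.Finite R N] (d : M →ₗ[R] N) (p : PrimeSpectrum R) :
    fiberRank (N ⧸ LinearMap.range d) p +
      Module.finrank p.asIdeal.ResidueField (LinearMap.range (d.baseChange p.asIdeal.ResidueField))
      = fiberRank N p := by
  have e := CokerProj.cokerBaseChange p.asIdeal.ResidueField d
  have h1 : fiberRank (N ⧸ LinearMap.range d) p =
      Module.finrank p.asIdeal.ResidueField ((p.asIdeal.ResidueField ⊗[R] N) ⧸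
        LinearMap.range (d.baseChange p.asIdeal.ResidueField)) := e.finrank_eq
  rw [h1]
  exact Submodule.finrank_quotient_add_finrank _

end Fibre

end K67.Betti
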