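import Mathlib.Algebra.Homology.ShortComplex.HomologicalComplex
import Mathlib.Algebra.Homology.ShortComplex.ModuleCat
import Mathlib.Algebra.Homology.ShortComplex.Exact

/-!
# Homology classes of complexes of modules, elementwise (after `CohtopB.ClassAb`)

`IsClass K j x c` : the element `x` of `K.X j` is a cocycle whose class in `K.homology j` is `c`.
-/

set_option autoImplicit false

universe u v

open CategoryTheory CategoryTheory.Limits

namespace K67.ClassMod

variable {R : Type u} [Ring R] {ι : Type*} {c : ComplexShape ι}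

/-- `x` is a cocycle with class `a` in homology. -/
def IsClass (K : HomologicalComplex (ModuleCat.{v} R) c) (j : ι) (x : K.X j) (a : K.homology j) : Prop :=
  ∃ z : K.cycles j, K.iCycles j z = x ∧ K.homologyπ j z = a

variable {K L : HomologicalComplex (ModuleCat.{v} R) c} {j : ι}

lemma IsClass.exists (a : K.homology j) : ∃ x, IsClass K j x a := by
  obtain ⟨z, hz⟩ := (ModuleCat.epi_iff_surjective (K.homologyπ j)).1 inferInstance a
  exact ⟨_, z, rfl, hz⟩

lemma IsClass.d_eq_zero {x : K.X j} {a : K.homology j} (h : IsClass K j x a) (k : ι) : K.d j k x = 0 := by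
  obtain ⟨z, rfl, -⟩ := h
  rw [← ConcreteCategory.comp_apply, K.iCycles_d]
  rfl

lemma exists_class {x : K.X j} (k : ι) (hk : c.next j = k) (hx : K.d j k x = 0) : ∃ a, IsClass K j x a := by
  have ex : (ShortComplex.mk (K.iCycles j) (K.d j k) (K.iCycles_d j k)).Exact :=
    ShortComplex.exact_of_f_is_kernel _ (K.cyclesIsKernel j k hk)
  rw [ShortComplex.moduleCat_exact_iff] at ex
  obtain ⟨z, hz⟩ := ex x hx
  exact ⟨_, z, hz, rfl⟩

lemma IsClass.unique {x : K.X j} {a b : K.homology j} (ha : IsClass K j x a) (hb : IsClass K j x b) : a = b := by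
  obtain ⟨z, rfl, rfl⟩ := ha
  obtain ⟨z', hz', rfl⟩ := hb
  have : z' = z := (ModuleCat.mono_iff_injective (K.iCycles j)).1 inferInstance hz'
  rw [this]

lemma IsClass.add {x y : K.X j} {a b : K.homology j} (ha : IsClass K j x a) (hb : IsClass K j y b) :
    IsClass K j (x + y) (a + b) := by
  obtain ⟨z, rfl, rfl⟩ := ha
  obtain ⟨z', rfl, rfl⟩ := hb
  exact ⟨z + z', map_add _ _ _, map_add _ _ _⟩

lemma IsClass.neg {x : K.X j} {a : K.homology j} (ha : IsClass K j x a) :
    IsClass K j (-x) (-a) := by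
  obtain ⟨z, rfl, rfl⟩ := ha
  exact ⟨-z, map_neg _ _, map_neg _ _⟩

lemma IsClass.sub {x y : K.X j} {a b : K.homology j} (ha : IsClass K j x a) (hb : IsClass K j y b) :
    IsClass K j (x - y) (a - b) := by
  obtain ⟨z, rfl, rfl⟩ := ha
  obtain ⟨z', rfl, rfl⟩ := hb
  exact ⟨z - z', map_sub _ _ _, map_sub _ _ _⟩

lemma IsClass.zero : IsClass K j 0 0 := ⟨0, map_zero _, map_zero _⟩

lemma IsClass.map {x : K.X j} {a : K.homology j} (ha : IsClass K j x a) (φ : K ⟶ L) :
    IsClass L j (φ.f j x) (HomologicalComplex.homologyMap φ j a) := by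
  obtain ⟨z, rfl, rfl⟩ := ha
  refine ⟨HomologicalComplex.cyclesMap φ j z, ?_, ?_⟩
  · rw [← ConcreteCategory.comp_apply, HomologicalComplex.cyclesMap_i]
    rfl
  · rw [← ConcreteCategory.comp_apply, ← HomologicalComplex.homologyπ_naturality]
    rfl

lemma isClass_boundary (i : ι) (y : K.X i) : IsClass K j (K.d i j y) 0 := by
  refine ⟨K.toCycles i j y, ?_, ?_⟩
  · rw [← ConcreteCategory.comp_apply, K.toCycles_i]
  · rw [← ConcreteCategory.comp_apply, K.toCycles_comp_homologyπ]
    rfl

lemma IsClass.eq_boundary {x : K.X j} (hx : IsClass K j x 0) (i : ι) (hi : c.prev j = i) :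
    ∃ y : K.X i, K.d i j y = x := by
  obtain ⟨z, rfl, hz⟩ := hx
  have ex : (ShortComplex.mk (K.toCycles i j) (K.homologyπ j) (K.toCycles_comp_homologyπ i j)).Exact :=
    ShortComplex.exact_of_g_is_cokernel _ (K.homologyIsCokernel i j hi)
  rw [ShortComplex.moduleCat_exact_iff] at ex
  obtain ⟨y, hy⟩ := ex z hz
  refine ⟨y, ?_⟩
  rw [← hy, ← K.toCycles_i i j]
  rfl

lemma isClass_zero_iff {x : K.X j} (i : ι) (hi : c.prev j = i) :
    IsClass K j x 0 ↔ ∃ y : K.X i, K.d i j y = x :=
  ⟨fun h => h.eq_boundary i hi, fun ⟨y, hy⟩ => hy ▸ isClass_boundary i y⟩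

/-- Same class iff the difference is a boundary. -/
lemma IsClass.sub_boundary {x y : K.X j} {a : K.homology j} (ha : IsClass K j x a) (hb : IsClass K j y a)
    (i : ι) (hi : c.prev j = i) : ∃ w : K.X i, K.d i j w = x - y :=
  IsClass.eq_boundary (by simpa using ha.sub hb) i hi

/-- Elementwise criterion: `H^j(φ)` is injective. -/
lemma injective_homologyMap_iff (φ : K ⟶ L) (i k : ι) (hi : c.prev j = i) (hk : c.next j = k) :
    Function.Injective (HomologicalComplex.homologyMap φ j) ↔
      ∀ x : K.X j, K.d j k x = 0 → (∃ y : L.X i, L.d i j y = φ.f j x) → ∃ y : K.X i, K.d i j y = x := by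
  constructor
  · intro h x hx hy
    obtain ⟨a, ha⟩ := exists_class k hk hx
    have h0 : HomologicalComplex.homologyMap φ j a = 0 :=
      (ha.map φ).unique ((isClass_zero_iff i hi).2 hy)
    have : a = 0 := h (by rw [h0, map_zero])
    subst this
    exact ha.eq_boundary i hi
  · intro h
    rw [injective_iff_map_eq_zero]
    intro a ha
    obtain ⟨x, hx⟩ := IsClass.exists a
    have := h x (hx.d_eq_zero k) ((isClass_zero_iff i hi).1 (by simpa [ha] using hx.map φ))
    exact hx.unique ((isClass_zero_iff i hi).2 this)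

/-- Elementwise criterion: `H^j(φ)` is surjective. -/
lemma surjective_homologyMap_iff (φ : K ⟶ L) (i k : ι) (hi : c.prev j = i) (hk : c.next j = k) :
    Function.Surjective (HomologicalComplex.homologyMap φ j) ↔
      ∀ x : L.X j, L.d j k x = 0 → ∃ (x' : K.X j) (y : L.X i), K.d j k x' = 0 ∧ φ.f j x' + L.d i j y = x := by
  constructor
  · intro h x hx
    obtain ⟨a, ha⟩ := exists_class k hk hx
    obtain ⟨b, rfl⟩ := h a
    obtain ⟨x', hx'⟩ := IsClass.exists b
    obtain ⟨y, hy⟩ := ha.sub_boundary (hx'.map φ) i hi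
    exact ⟨x', y, hx'.d_eq_zero k, by rw [hy]; abel⟩
  · intro h a
    obtain ⟨x, hx⟩ := IsClass.exists a
    obtain ⟨x', y, hx', rfl⟩ := h x (hx.d_eq_zero k)
    obtain ⟨b, hb⟩ := exists_class k hk hx'
    refine ⟨b, ?_⟩
    have := (hb.map φ).add (isClass_boundary (K := L) (j := j) i y)
    rw [add_zero] at this
    exact this.unique hx

end K67.ClassMod
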