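import Mathlib.RingTheory.LocalRing.Module
import Mathlib.RingTheory.Spectrum.Prime.FreeLocus
import Mathlib.RingTheory.Localization.AtPrime.Basic
import Mathlib.RingTheory.LocalRing.ResidueField.Ideal
import Mathlib.RingTheory.Flat.Localization
import Mathlib.LinearAlgebra.TensorProduct.Tower

/-!
# Kernels, cokernels and residue fields

`d : M → N` a linear map between finite projective `R`-modules.
* `KerSurj R S d`: the map `S ⊗ Ker d → Ker (S ⊗ d)` is surjective.
* `kerSurj_of_projective`: it is if `Coker d` is projective, for all `S`.
* `kerSurj_trans_iff`: invariance under a flat base change `R → R'` over which `S` lives.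
* `free_of_kerSurj`: over a local ring with residue field `k`, `KerSurj k` implies `Coker d` free.
* `kerSurj_residueField_iff`: `KerSurj κ(p) d` iff `p` is in the free locus of `Coker d`.
-/

set_option autoImplicit false

open TensorProduct

namespace K67.CokerProj

universe u v w

/-- the map `S ⊗ Ker d → Ker (S ⊗ d)` is surjective -/
def KerSurj (R : Type*) [CommRing R] (S : Type*) [CommRing S] [Algebra R S]
    {M N : Type*} [AddCommGroup M] [Module R M] [AddCommGroup N] [Module R N]
    (d : M →ₗ[R] N) : Prop :=
  LinearMap.ker (d.baseChange S) ≤ LinearMap.range ((LinearMap.ker d).subtype.baseChange S)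

section Basic

variable {R : Type*} [CommRing R] {M N : Type*} [AddCommGroup M] [Module R M]
  [AddCommGroup N] [Module R N]

theorem exists_quasiInverse [Module.Projective R N] (d : M →ₗ[R] N)
    [Module.Projective R (N ⧸ LinearMap.range d)] :
    ∃ e : N →ₗ[R] M, d ∘ₗ e ∘ₗ d = d := by
  obtain ⟨s, hs⟩ := Module.projective_lifting_property (LinearMap.range d).mkQ LinearMap.id
    (Submodule.mkQ_surjective _)
  -- projection onto the range
  let π : N →ₗ[R] LinearMap.range d := (LinearMap.id - s ∘ₗ (LinearMap.range d).mkQ).codRestrict _
    (fun x => by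
      have h0 : ∀ y : N, (LinearMap.range d).mkQ y = 0 → y ∈ LinearMap.range d := fun y hy => by
        rwa [Submodule.mkQ_apply, Submodule.Quotient.mk_eq_zero] at hy
      apply h0
      have := LinearMap.congr_fun hs ((LinearMap.range d).mkQ x)
      simp only [LinearMap.comp_apply, LinearMap.id_apply] at this
      simp only [LinearMap.sub_apply, LinearMap.id_apply, LinearMap.comp_apply, map_sub, this,
        sub_self])
  have hπ : ∀ x : LinearMap.range d, π x = x := by
    intro x
    apply Subtype.ext
    have h1 : (LinearMap.range d).mkQ (x : N) = 0 := by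
      rw [Submodule.mkQ_apply, Submodule.Quotient.mk_eq_zero]; exact x.2
    simp only [π, LinearMap.codRestrict_apply, LinearMap.sub_apply, LinearMap.id_apply,
      LinearMap.comp_apply, h1, map_zero, sub_zero]
  haveI : Module.Projective R (LinearMap.range d) :=
    Module.Projective.of_split (LinearMap.range d).subtype π (by ext x; simp [hπ])
  obtain ⟨t, ht⟩ := Module.projective_lifting_property d.rangeRestrict
    (LinearMap.id (R := R) (M := LinearMap.range d)) d.surjective_rangeRestrict
  refine ⟨t ∘ₗ π, ?_⟩
  ext x
  have h1 := hπ ⟨d x, ⟨x, rfl⟩⟩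
  have h2 := congrArg Subtype.val (LinearMap.congr_fun ht ⟨d x, ⟨x, rfl⟩⟩)
  simp only [LinearMap.comp_apply] at h1 h2 ⊢
  rw [h1]
  exact h2

/-- A map with projective cokernel: kernels commute with all base changes. -/
theorem kerSurj_of_projective [Module.Projective R N] (d : M →ₗ[R] N)
    [Module.Projective R (N ⧸ LinearMap.range d)] (S : Type*) [CommRing S] [Algebra R S] :
    KerSurj R S d := by
  obtain ⟨e, he⟩ := exists_quasiInverse d
  intro z hz
  rw [LinearMap.mem_ker] at hz
  let g : M →ₗ[R] LinearMap.ker d := (LinearMap.id - e ∘ₗ d).codRestrict _ (fun x => by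
    have := LinearMap.congr_fun he x
    simp only [LinearMap.comp_apply] at this
    simp [this])
  refine ⟨g.baseChange S z, ?_⟩
  have h1 : (LinearMap.ker d).subtype ∘ₗ g = LinearMap.id - e ∘ₗ d := by ext x; rfl
  rw [← LinearMap.comp_apply, ← LinearMap.baseChange_comp, h1, LinearMap.baseChange_sub,
    LinearMap.baseChange_comp, LinearMap.sub_apply, LinearMap.comp_apply, hz, map_zero, sub_zero,
    LinearMap.baseChange_id]
  rfl

end Basic

section Trans

variable {R : Type*} [CommRing R] {M N : Type*} [AddCommGroup M] [Module R M]
  [AddCommGroup N] [Module R N] (R' : Type*) [CommRing R'] [Algebra R R']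
  (S : Type*) [CommRing S] [Algebra R S] [Algebra R' S] [IsScalarTower R R' S]

theorem cancel_naturality (d : M →ₗ[R] N) (z : S ⊗[R'] (R' ⊗[R] M)) :
    AlgebraTensorModule.cancelBaseChange R R' S S N ((d.baseChange R').baseChange S z) =
      d.baseChange S (AlgebraTensorModule.cancelBaseChange R R' S S M z) := by
  induction z with
  | zero => simp
  | tmul s x =>
    induction x with
    | zero => simp
    | tmul r m => simp
    | add x y hx hy => rw [tmul_add, map_add, map_add, hx, hy, map_add, map_add]
  | add x y hx hy => rw [map_add, map_add, hx, hy, map_add, map_add]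

/-- The kernel of a flat base change. -/
theorem ker_baseChange_eq [Module.Flat R R'] (d : M →ₗ[R] N) :
    LinearMap.ker (d.baseChange R') =
      LinearMap.range ((LinearMap.ker d).subtype.baseChange R') := by
  have h := Module.Flat.lTensor_exact (R := R) R' (LinearMap.exact_subtype_ker_map d)
  ext z
  exact h z

theorem kerSurj_trans_iff [Module.Flat R R'] (d : M →ₗ[R] N) :
    KerSurj R S d ↔ KerSurj R' S (d.baseChange R') := by
  have hrange : LinearMap.range ((LinearMap.ker (d.baseChange R')).subtype.baseChange S) =
      LinearMap.range (((LinearMap.ker d).subtype.baseChange R').baseChange S) := by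
    let g : R' ⊗[R] LinearMap.ker d →ₗ[R'] LinearMap.ker (d.baseChange R') :=
      ((LinearMap.ker d).subtype.baseChange R').codRestrict _ (fun x => by
        rw [ker_baseChange_eq]; exact ⟨x, rfl⟩)
    have hg : Function.Surjective g := by
      rintro ⟨x, hx⟩
      have hx' := hx
      rw [ker_baseChange_eq] at hx'
      obtain ⟨y, hy⟩ := hx'
      exact ⟨y, Subtype.ext hy⟩
    have h1 : (LinearMap.ker d).subtype.baseChange R' =
        (LinearMap.ker (d.baseChange R')).subtype ∘ₗ g := by ext x; rfl
    rw [h1, LinearMap.baseChange_comp]
    refine (LinearMap.range_comp_of_range_eq_top _ ?_).symm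
    rw [LinearMap.range_eq_top]
    exact LinearMap.lTensor_surjective S hg
  rw [KerSurj, KerSurj, hrange]
  let eM := AlgebraTensorModule.cancelBaseChange R R' S S M
  let eN := AlgebraTensorModule.cancelBaseChange R R' S S N
  let eK := AlgebraTensorModule.cancelBaseChange R R' S S (LinearMap.ker d)
  constructor
  · intro h z hz
    rw [LinearMap.mem_ker] at hz
    have h1 : eM z ∈ LinearMap.ker (d.baseChange S) := by
      rw [LinearMap.mem_ker]
      have := cancel_naturality R' S d z
      rw [hz, map_zero] at this
      exact this.symm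
    obtain ⟨y, hy⟩ := h h1
    refine ⟨eK.symm y, ?_⟩
    apply eM.injective
    have := cancel_naturality R' S (LinearMap.ker d).subtype (eK.symm y)
    rw [← hy]
    refine this.trans ?_
    congr 1
    exact eK.apply_symm_apply y
  · intro h z hz
    rw [LinearMap.mem_ker] at hz
    have h1 : eM.symm z ∈ LinearMap.ker ((d.baseChange R').baseChange S) := by
      rw [LinearMap.mem_ker]
      apply eN.injective
      have := cancel_naturality R' S d (eM.symm z)
      refine this.trans ?_
      rw [map_zero]
      have h2 : AlgebraTensorModule.cancelBaseChange R R' S S M (eM.symm z) = z :=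
        eM.apply_symm_apply z
      rw [h2, hz]
    obtain ⟨y, hy⟩ := h h1
    refine ⟨eK y, ?_⟩
    have := cancel_naturality R' S (LinearMap.ker d).subtype y
    rw [hy] at this
    exact this.symm.trans (eM.apply_symm_apply z)

end Trans

section Local

open IsLocalRing

variable {R : Type*} [CommRing R] [IsLocalRing R] {M N : Type*} [AddCommGroup M] [Module R M]
  [AddCommGroup N] [Module R N] [Module.Finite R M] [Module.Finite R N] [Module.Free R M]
  [Module.Free R N]

theorem free_of_kerSurj (d : M →ₗ[R] N) (h : KerSurj R (ResidueField R) d) :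
    Module.Free R (N ⧸ LinearMap.range d) := by
  classical
  let k := ResidueField R
  let T : Set (k ⊗[R] M) := (fun x : LinearMap.ker d => (1 : k) ⊗ₜ[R] (x : M)) '' Set.univ
  obtain ⟨b, hbT, hbs, hli⟩ := exists_linearIndependent k T
  haveI : Finite b := by
    have := hli.finite
    exact this
  haveI := Fintype.ofFinite b
  have hker : LinearMap.ker (d.baseChange k) ≤ Submodule.span k b := by
    rw [hbs]
    refine h.trans ?_
    rintro _ ⟨z, rfl⟩
    induction z with
    | zero => rw [map_zero]; exact zero_mem _
    | tmul c x =>
      have : (LinearMap.baseChange k (LinearMap.ker d).subtype) (c ⊗ₜ[R] x) =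
          c • ((1 : k) ⊗ₜ[R] (x : M)) := by
        simp [smul_tmul']
      rw [this]
      exact Submodule.smul_mem _ _ (Submodule.subset_span ⟨x, trivial, rfl⟩)
    | add x y hx hy => rw [map_add]; exact add_mem hx hy
  choose x hx using fun y : b => hbT y.2
  -- the map `R ^ b → M`
  let φ : (b → R) →ₗ[R] M := Fintype.linearCombination R (fun y : b => (x y : M))
  have hdφ : d ∘ₗ φ = 0 := by
    apply LinearMap.pi_ext'
    intro i
    ext
    simp [φ, Fintype.linearCombination_apply, Pi.single_apply]
  have hφk : ∀ z : k ⊗[R] (b → R), φ.baseChange k z =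
      ∑ y : b, (TensorProduct.piScalarRight R k k b z) y • (y : k ⊗[R] M) := by
    intro z
    induction z with
    | zero => simp
    | tmul c f =>
      rw [LinearMap.baseChange_tmul]
      simp only [φ, Fintype.linearCombination_apply, tmul_sum, piScalarRight_apply,
        piScalarRightHom_tmul]
      refine Finset.sum_congr rfl fun y _ => ?_
      have := (hx y).2
      rw [← this]
      simp only [smul_tmul', smul_eq_mul, mul_one]
      rw [tmul_smul, smul_tmul', ← smul_tmul']
    | add z w hz hw => simp only [map_add, hz, hw, Pi.add_apply, add_smul, Finset.sum_add_distrib]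
  have hinj : Function.Injective (φ.lTensor k) := by
    rw [injective_iff_map_eq_zero]
    intro z hz
    have h1 := hφk z
    have h2 : φ.baseChange k z = 0 := hz
    rw [h2] at h1
    have h3 := Fintype.linearIndependent_iff.mp hli _ h1.symm
    apply (TensorProduct.piScalarRight R k k b).injective
    ext i
    rw [h3 i, map_zero]
    rfl
  obtain ⟨φ', hφ'⟩ := (IsLocalRing.split_injective_iff_lTensor_residueField_injective φ).mpr hinj
  -- the complement
  let M' := LinearMap.ker φ'
  let q : M →ₗ[R] M' := (LinearMap.id - φ ∘ₗ φ').codRestrict _ (fun m => by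
    have := LinearMap.congr_fun hφ' (φ' m)
    simp only [LinearMap.comp_apply, LinearMap.id_apply] at this
    rw [LinearMap.mem_ker]
    simp [this])
  have hq : q ∘ₗ M'.subtype = LinearMap.id := by
    ext m
    have : φ' (m : M) = 0 := m.2
    simp [q, this]
  haveI : Module.Finite R M' := Module.Finite.of_surjective q (fun m => ⟨m, LinearMap.congr_fun hq m⟩)
  let d' : M' →ₗ[R] N := d ∘ₗ M'.subtype
  have hrange : LinearMap.range d' = LinearMap.range d := by
    apply le_antisymm
    · rintro _ ⟨m, rfl⟩; exact ⟨m, rfl⟩
    · rintro _ ⟨m, rfl⟩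
      refine ⟨q m, ?_⟩
      have h1 : d (φ (φ' m)) = 0 := LinearMap.congr_fun hdφ (φ' m)
      simp [d', q, h1]
  have hinj' : Function.Injective (d'.lTensor k) := by
    rw [injective_iff_map_eq_zero]
    intro z hz
    have h1 : d.baseChange k (M'.subtype.baseChange k z) = 0 := by
      rw [← LinearMap.comp_apply, ← LinearMap.baseChange_comp]
      exact hz
    have h2 : M'.subtype.baseChange k z ∈ LinearMap.range (φ.baseChange k) := by
      have h3 : M'.subtype.baseChange k z ∈ Submodule.span k b := hker h1
      have h4 : Submodule.span k b ≤ LinearMap.range (φ.baseChange k) := by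
        rw [Submodule.span_le]
        intro y hy
        refine ⟨(1 : k) ⊗ₜ (Pi.single ⟨y, hy⟩ 1), ?_⟩
        rw [hφk]
        simp only [piScalarRight_apply, piScalarRightHom_tmul]
        rw [Finset.sum_eq_single ⟨y, hy⟩]
        · simp
        · intro j _ hj
          simp [Pi.single_apply, hj]
        · intro hcon; exact absurd (Finset.mem_univ _) hcon
      exact h4 h3
    obtain ⟨y, hy⟩ := h2
    have h5 : φ'.baseChange k (φ.baseChange k y) = y := by
      rw [← LinearMap.comp_apply, ← LinearMap.baseChange_comp, hφ', LinearMap.baseChange_id]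
      rfl
    have h6 : φ'.baseChange k (M'.subtype.baseChange k z) = 0 := by
      rw [← LinearMap.comp_apply, ← LinearMap.baseChange_comp]
      have : φ' ∘ₗ M'.subtype = 0 := LinearMap.ext fun m => m.2
      rw [this, LinearMap.baseChange_zero]
      rfl
    rw [hy] at h5
    rw [h6] at h5
    have h7 : M'.subtype.baseChange k z = 0 := by rw [← hy, ← h5, map_zero]
    have h8 : q.baseChange k (M'.subtype.baseChange k z) = z := by
      rw [← LinearMap.comp_apply, ← LinearMap.baseChange_comp, hq, LinearMap.baseChange_id]
      rfl
    rw [← h8, h7, map_zero]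
  have := Module.free_of_lTensor_residueField_injective d' (LinearMap.range d').mkQ
    (Submodule.mkQ_surjective _) d'.exact_map_mkQ_range hinj'
  exact Module.Free.of_equiv (Submodule.quotEquivOfEq _ _ hrange)

end Local

section Global

variable {R : Type u} [CommRing R] {M : Type v} {N : Type w} [AddCommGroup M] [Module R M]
  [AddCommGroup N] [Module R N] [Module.Finite R M] [Module.Finite R N]

/-- the cokernel of a base change -/
noncomputable def cokerBaseChange (R' : Type*) [CommRing R'] [Algebra R R'] (d : M →ₗ[R] N) :
    (R' ⊗[R] (N ⧸ LinearMap.range d)) ≃ₗ[R'] ((R' ⊗[R] N) ⧸ LinearMap.range (d.baseChange R')) :=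
  ((Submodule.quotEquivOfEq _ _ (by
      have h := lTensor_exact R' (d.exact_map_mkQ_range) (Submodule.mkQ_surjective _)
      ext z
      exact (h z).symm)).trans
    (((LinearMap.range d).mkQ.baseChange R').quotKerEquivOfSurjective
      (LinearMap.lTensor_surjective R' (Submodule.mkQ_surjective _)))).symm

variable [Module.Projective R M] [Module.Projective R N]

theorem kerSurj_residueField_iff (d : M →ₗ[R] N) (p : PrimeSpectrum R) :
    KerSurj R p.asIdeal.ResidueField d ↔ p ∈ Module.freeLocus R (N ⧸ LinearMap.range d) := by
  let Rp := Localization.AtPrime p.asIdeal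
  rw [Module.mem_freeLocus_iff_tensor p Rp, kerSurj_trans_iff Rp p.asIdeal.ResidueField d]
  haveI : Module.Free Rp (Rp ⊗[R] M) := Module.free_of_flat_of_isLocalRing
  haveI : Module.Free Rp (Rp ⊗[R] N) := Module.free_of_flat_of_isLocalRing
  constructor
  · intro h
    haveI := free_of_kerSurj (d.baseChange Rp) h
    exact Module.Free.of_equiv (cokerBaseChange Rp d).symm
  · intro h
    haveI : Module.Free Rp ((Rp ⊗[R] N) ⧸ LinearMap.range (d.baseChange Rp)) :=
      Module.Free.of_equiv (cokerBaseChange Rp d)
    exact kerSurj_of_projective (d.baseChange Rp) _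

end Global

end K67.CokerProj
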