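import Mathlib.RingTheory.RegularLocalRing.Defs
import Mathlib.RingTheory.KrullDimension.Regular
import Mathlib.RingTheory.Kaehler.Basic
import Mathlib.RingTheory.LocalRing.Module
import Mathlib.RingTheory.LocalRing.Quotient
import Mathlib.RingTheory.Filtration
import Mathlib.Tactic.LinearCombination

/-!
# Regularity from derivations in characteristic zero

* `mem_nonZeroDivisors`: an element `x` of the maximal ideal with `D x = 1` is a nonzerodivisor;
* `ringKrullDim_eq`: if the maximal ideal is generated by `x_1, …, x_n` and there are derivations with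
  `D_i x_j = δ_ij`, then the dimension is `n`;
* `exists_dual`: if `Ω` is free of rank `n` and the residue field is the base field, there are such data.
-/

set_option autoImplicit false

universe u

namespace K67.DerReg

open IsLocalRing

theorem mem_nonZeroDivisors {k R : Type*} [CommRing k] [CommRing R] [Algebra k R] [IsLocalRing R]
    [IsNoetherianRing R] (hQ : ∀ m : ℕ, m ≠ 0 → IsUnit (m : R)) (x : R)
    (hx : x ∈ maximalIdeal R) (D : Derivation k R R) (hD : D x = 1) : x ∈ nonZeroDivisors R := by
  rw [mem_nonZeroDivisors_iff_right]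
  intro a ha
  have key : ∀ r : ℕ, ∃ b : R, a = x ^ r * b := by
    intro r
    induction r with
    | zero => exact ⟨a, by simp⟩
    | succ r ih =>
      obtain ⟨b, rfl⟩ := ih
      have h0 : x ^ (r + 1) * b = 0 := by rw [← ha]; ring
      have h1 := congrArg D h0
      rw [map_zero, Derivation.leibniz, Derivation.leibniz_pow, hD] at h1
      simp only [smul_eq_mul, nsmul_eq_mul, Nat.add_sub_cancel, mul_one] at h1
      obtain ⟨w, hw⟩ := hQ (r + 1) (Nat.succ_ne_zero r)
      refine ⟨-(w⁻¹ : Rˣ) * D b, ?_⟩
      have h2 : (w : R) * (x ^ r * b) = - (x ^ (r + 1) * D b) := by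
        rw [hw]
        linear_combination h1
      have h3 : x ^ r * b = (w⁻¹ : Rˣ) * ((w : R) * (x ^ r * b)) := by
        rw [← mul_assoc, Units.inv_mul, one_mul]
      rw [h3, h2]; ring
  have h : a ∈ (⨅ r : ℕ, (Ideal.span {x}) ^ r : Ideal R) := by
    rw [Ideal.mem_iInf]
    intro r
    obtain ⟨b, hb⟩ := key r
    rw [hb, Ideal.span_singleton_pow]
    exact Ideal.mul_mem_right _ _ (Ideal.mem_span_singleton_self _)
  rw [Ideal.iInf_pow_eq_bot_of_isLocalRing] at h
  · exact h
  · intro htop
    have : (Ideal.span {x} : Ideal R) ≤ maximalIdeal R := by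
      rw [Ideal.span_le]; simpa using hx
    rw [htop] at this
    exact (maximalIdeal.isMaximal R).ne_top (top_le_iff.mp this)

theorem ringKrullDim_eq {k : Type*} [CommRing k] (n : ℕ) : ∀ (R : Type u) [CommRing R] [Algebra k R]
    [IsLocalRing R] [IsNoetherianRing R] (_ : ∀ m : ℕ, m ≠ 0 → IsUnit (m : R)) (x : Fin n → R)
    (_ : maximalIdeal R = Ideal.span (Set.range x)) (D : Fin n → Derivation k R R)
    (_ : ∀ i j, D i (x j) = if i = j then 1 else 0), ringKrullDim R = n := by
  classical
  induction n with
  | zero =>
    intro R _ _ _ _ _ x hx _ _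
    have h0 : maximalIdeal R = ⊥ := by
      rw [hx]
      simp
    have : IsField R := IsLocalRing.isField_iff_maximalIdeal_eq.mpr h0
    rw [Nat.cast_zero]
    exact ringKrullDim_eq_zero_of_isField this
  | succ n ih =>
    intro R _ _ _ _ hQ x hx D hD
    have hx0 : x 0 ∈ maximalIdeal R := by rw [hx]; exact Ideal.subset_span ⟨0, rfl⟩
    have hnzd : x 0 ∈ nonZeroDivisors R :=
      mem_nonZeroDivisors hQ (x 0) hx0 (D 0) (by rw [hD]; simp)
    let I : Ideal R := Ideal.span {x 0}
    have hI : I ≤ maximalIdeal R := by rw [Ideal.span_le]; simpa using hx0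
    haveI : Nontrivial (R ⧸ I) := Ideal.Quotient.nontrivial_iff.mpr
      (fun h => (maximalIdeal.isMaximal R).ne_top (top_le_iff.mp (h ▸ hI)))
    haveI : IsLocalRing (R ⧸ I) := IsLocalRing.of_surjective' _ Ideal.Quotient.mk_surjective
    have hmax : maximalIdeal (R ⧸ I) = (maximalIdeal R).map (Ideal.Quotient.mk I) := by
      haveI : IsLocalHom (Ideal.Quotient.mk I) :=
        IsLocalHom.of_surjective _ Ideal.Quotient.mk_surjective
      have h1 : (maximalIdeal (R ⧸ I)).comap (Ideal.Quotient.mk I) = maximalIdeal R :=
        IsLocalRing.maximalIdeal_comap _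
      rw [← h1, Ideal.map_comap_of_surjective _ Ideal.Quotient.mk_surjective]
    have hdesc : ∀ i : Fin n, ∀ a : R, Ideal.Quotient.mkₐ k I a = 0 →
        Ideal.Quotient.mkₐ k I (D i.succ a) = 0 := by
      intro i a ha
      rw [Ideal.Quotient.mkₐ_eq_mk, Ideal.Quotient.eq_zero_iff_mem] at ha ⊢
      obtain ⟨b, rfl⟩ := Ideal.mem_span_singleton.mp ha
      rw [Derivation.leibniz, hD, if_neg (Fin.succ_ne_zero i), smul_zero, add_zero, smul_eq_mul]
      exact Ideal.mul_mem_right _ _ (Ideal.mem_span_singleton_self _)
    have hdim := ih (R ⧸ I) (fun m hm => by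
        have := (hQ m hm).map (Ideal.Quotient.mk I)
        simpa using this) (fun i => Ideal.Quotient.mk I (x i.succ)) (by
        rw [hmax, hx, Ideal.map_span]
        apply le_antisymm
        · rw [Ideal.span_le]
          rintro _ ⟨_, ⟨i, rfl⟩, rfl⟩
          refine Fin.cases ?_ (fun j => ?_) i
          · have : Ideal.Quotient.mk I (x 0) = 0 := by
              rw [Ideal.Quotient.eq_zero_iff_mem]; exact Ideal.mem_span_singleton_self _
            rw [this]; exact zero_mem _
          · exact Ideal.subset_span ⟨j, rfl⟩
        · apply Ideal.span_mono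
          rintro _ ⟨i, rfl⟩
          exact ⟨x i.succ, ⟨i.succ, rfl⟩, rfl⟩)
      (fun i => Derivation.liftOfSurjective (f := Ideal.Quotient.mkₐ k I)
        (Ideal.Quotient.mkₐ_surjective k I) (hdesc i)) (fun i j => by
        have h1 := Derivation.liftOfRightInverse_apply (f := Ideal.Quotient.mkₐ k I)
          (Function.rightInverse_surjInv (Ideal.Quotient.mkₐ_surjective k I)) (hdesc i) (x j.succ)
        refine h1.trans ?_
        rw [hD]
        by_cases hij : i = j
        · subst hij; simp
        · rw [if_neg (fun h => hij (Fin.succ_injective _ h)), if_neg hij, map_zero])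
    have h2 := ringKrullDim_quotient_span_singleton_succ_eq_ringKrullDim_of_mem_nonZeroDivisors
      hnzd hx0
    rw [← h2, hdim]
    push_cast
    rfl

section Kaehler

variable (k R : Type u) [Field k] [CommRing R] [Algebra k R] [IsLocalRing R] [IsNoetherianRing R]

/-- The projection of `R` to the cotangent module, when the residue field is the base field. -/
theorem exists_der (hres : Function.Surjective (algebraMap k (ResidueField R))) :
    ∃ δ : Derivation k R (maximalIdeal R).Cotangent,
      ∀ a : maximalIdeal R, δ (a : R) = (maximalIdeal R).toCotangent a := by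
  let σ : k ≃+* ResidueField R := RingEquiv.ofBijective (algebraMap k (ResidueField R))
    ⟨(algebraMap k (ResidueField R)).injective, hres⟩
  let ρ : R →+* k := (σ.symm : ResidueField R →+* k).comp (residue R)
  have hρ : ∀ c : k, ρ (algebraMap k R c) = c := by
    intro c
    change σ.symm (residue R (algebraMap k R c)) = c
    rw [RingEquiv.symm_apply_eq]
    rfl
  have hmem : ∀ a : R, a - algebraMap k R (ρ a) ∈ maximalIdeal R := by
    intro a
    rw [← residue_eq_zero_iff, map_sub, sub_eq_zero]
    have : residue R (algebraMap k R (ρ a)) = σ (ρ a) := rfl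
    rw [this]
    exact (σ.apply_symm_apply (residue R a)).symm
  have hρm : ∀ a ∈ maximalIdeal R, ρ a = 0 := by
    intro a ha
    have h1 : residue R a = 0 := (residue_eq_zero_iff a).mpr ha
    change σ.symm (residue R a) = 0
    rw [h1, map_zero]
  let f : R →ₗ[k] (maximalIdeal R).Cotangent :=
    { toFun := fun a => (maximalIdeal R).toCotangent ⟨a - algebraMap k R (ρ a), hmem a⟩
      map_add' := fun a b => by
        rw [← map_add]
        congr 1
        apply Subtype.ext
        simp only [map_add, AddMemClass.mk_add_mk]
        ring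
      map_smul' := fun c a => by
        have h1 : (⟨c • a - algebraMap k R (ρ (c • a)), hmem (c • a)⟩ : maximalIdeal R) =
            (algebraMap k R c) • ⟨a - algebraMap k R (ρ a), hmem a⟩ := by
          apply Subtype.ext
          change c • a - algebraMap k R (ρ (c • a)) =
            algebraMap k R c * (a - algebraMap k R (ρ a))
          rw [Algebra.smul_def, map_mul, hρ, map_mul]
          ring
        rw [h1, map_smul, algebraMap_smul]
        rfl }
  refine ⟨Derivation.mk' f (fun a b => ?_), fun a => ?_⟩
  · change (maximalIdeal R).toCotangent _ = a • (maximalIdeal R).toCotangent _ +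
      b • (maximalIdeal R).toCotangent _
    rw [← map_smul, ← map_smul, ← map_add, Ideal.toCotangent_eq]
    simp only [SetLike.val_smul, smul_eq_mul, map_mul, Submodule.coe_add]
    have : a * b - algebraMap k R (ρ a) * algebraMap k R (ρ b) -
        (a * (b - algebraMap k R (ρ b)) + b * (a - algebraMap k R (ρ a))) =
        - ((a - algebraMap k R (ρ a)) * (b - algebraMap k R (ρ b))) := by ring
    rw [this, pow_two]
    exact neg_mem (Ideal.mul_mem_mul (hmem a) (hmem b))
  · change (maximalIdeal R).toCotangent _ = _
    congr 1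
    apply Subtype.ext
    simp only [hρm a.1 a.2, map_zero, sub_zero]

open TensorProduct in
/-- A basis of `Ω` made of differentials of elements generating the maximal ideal. -/
theorem exists_dual (hres : Function.Surjective (algebraMap k (ResidueField R)))
    (n : ℕ) (e : KaehlerDifferential k R ≃ₗ[R] (Fin n → R)) :
    ∃ (x : Fin n → R) (D : Fin n → Derivation k R R),
      maximalIdeal R = Ideal.span (Set.range x) ∧ ∀ i j, D i (x j) = if i = j then 1 else 0 := by
  classical
  let κ := ResidueField R
  let Ω := KaehlerDifferential k R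
  haveI : Module.Finite R Ω := Module.Finite.equiv e.symm
  haveI : Module.Free R Ω := Module.Free.of_equiv e.symm
  -- the set of differentials of elements of the maximal ideal spans
  let T : Set (κ ⊗[R] Ω) := (fun a : maximalIdeal R => (1 : κ) ⊗ₜ[R] (KaehlerDifferential.D k R (a : R))) ''
    Set.univ
  have hT : Submodule.span κ T = ⊤ := by
    have h1 : ∀ a : R, (1 : κ) ⊗ₜ[R] (KaehlerDifferential.D k R a) ∈ Submodule.span κ T := by
      intro a
      obtain ⟨c, hc⟩ := hres (residue R a)
      have hm : a - algebraMap k R c ∈ maximalIdeal R := by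
        rw [← residue_eq_zero_iff, map_sub, sub_eq_zero, ← hc]
        rfl
      have h2 : KaehlerDifferential.D k R a = KaehlerDifferential.D k R (a - algebraMap k R c) := by
        rw [map_sub, Derivation.map_algebraMap, sub_zero]
      rw [h2]
      exact Submodule.subset_span ⟨⟨_, hm⟩, trivial, rfl⟩
    rw [eq_top_iff]
    intro z _
    induction z with
    | zero => exact zero_mem _
    | tmul c w =>
      have hw : w ∈ Submodule.span R (Set.range (KaehlerDifferential.D k R)) := by
        rw [KaehlerDifferential.span_range_derivation]; trivial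
      have hc : c ⊗ₜ[R] w = c • ((1 : κ) ⊗ₜ[R] w) := by simp [smul_tmul']
      rw [hc]
      refine Submodule.smul_mem _ _ ?_
      refine Submodule.span_induction ?_ ?_ ?_ ?_ hw
      · rintro _ ⟨a, rfl⟩; exact h1 a
      · rw [tmul_zero]; exact zero_mem _
      · intro x y _ _ hx hy; rw [tmul_add]; exact add_mem hx hy
      · intro r x _ hx
        have : (1 : κ) ⊗ₜ[R] (r • x) = (residue R r) • ((1 : κ) ⊗ₜ[R] x) := by
          rw [tmul_smul, smul_tmul', smul_tmul']
          congr 1
        rw [this]
        exact Submodule.smul_mem _ _ hx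
    | add x y hx hy => exact add_mem (hx trivial) (hy trivial)
  obtain ⟨b, hbT, hbs, hli⟩ := exists_linearIndependent κ T
  let B : Module.Basis b κ (κ ⊗[R] Ω) := Module.Basis.mk hli (by
    rw [Subtype.range_coe, hbs, hT])
  have hfr : Module.finrank κ (κ ⊗[R] Ω) = n := by
    rw [Module.finrank_baseChange, LinearEquiv.finrank_eq e, Module.finrank_fin_fun]
  haveI : Finite b := Module.Finite.finite_basis B
  haveI := Fintype.ofFinite b
  have hcard : Fintype.card b = n := by
    rw [← hfr, Module.finrank_eq_card_basis B]
  let ε : b ≃ Fin n := Fintype.equivFinOfCardEq hcard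
  let B' := B.reindex ε
  have hB' : ∀ i, ∃ a : maximalIdeal R,
      (1 : κ) ⊗ₜ[R] (KaehlerDifferential.D k R (a : R)) = B' i := by
    intro i
    obtain ⟨a, -, ha⟩ := hbT (ε.symm i).2
    refine ⟨a, ha.trans ?_⟩
    simp [B', B]
  choose x hx using hB'
  have hspan : Submodule.span R (Set.range (fun i => KaehlerDifferential.D k R (x i : R))) = ⊤ :=
    IsLocalRing.span_eq_top_of_tmul_eq_basis _ B' hx
  let φ : (Fin n → R) →ₗ[R] Ω := Fintype.linearCombination R
    (fun i => KaehlerDifferential.D k R (x i : R))
  have hφs : Function.Surjective φ := by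
    rw [← LinearMap.range_eq_top, Fintype.range_linearCombination, hspan]
  have hφi : Function.Injective φ := by
    have h1 : Function.Surjective (e.toLinearMap ∘ₗ φ) := e.surjective.comp hφs
    have h2 := OrzechProperty.injective_of_surjective_endomorphism (e.toLinearMap ∘ₗ φ) h1
    exact fun a b hab => h2 (congrArg e hab)
  let Φ : (Fin n → R) ≃ₗ[R] Ω := LinearEquiv.ofBijective φ ⟨hφi, hφs⟩
  let D : Fin n → Derivation k R R := fun i =>
    ((LinearMap.proj i : (Fin n → R) →ₗ[R] R) ∘ₗ Φ.symm.toLinearMap).compDer
      (KaehlerDifferential.D k R)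
  have hΦ : ∀ j, Φ (Pi.single j 1) = KaehlerDifferential.D k R (x j : R) := by
    intro j
    change φ (Pi.single j 1) = _
    simp [φ, Fintype.linearCombination_apply, Pi.single_apply]
  refine ⟨fun i => (x i : R), D, ?_, ?_⟩
  · obtain ⟨δ, hδ⟩ := exists_der k R hres
    have hle : Ideal.span (Set.range fun i => (x i : R)) ≤ maximalIdeal R := by
      rw [Ideal.span_le]
      rintro _ ⟨i, rfl⟩
      exact (x i).2
    refine le_antisymm ?_ hle
    apply Submodule.le_of_le_smul_of_le_jacobson_bot (I := maximalIdeal R)
      (IsNoetherian.noetherian _) (IsLocalRing.maximalIdeal_le_jacobson ⊥)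
    intro a ha
    -- `D a` in terms of the basis
    let c := Φ.symm (KaehlerDifferential.D k R a)
    have h1 : KaehlerDifferential.D k R a = ∑ i, c i • KaehlerDifferential.D k R (x i : R) := by
      have h2 : Φ c = KaehlerDifferential.D k R a := LinearEquiv.apply_symm_apply _ _
      rw [← h2]
      change φ c = _
      rw [Fintype.linearCombination_apply]
    have h3 := congrArg δ.liftKaehlerDifferential h1
    rw [map_sum, Derivation.liftKaehlerDifferential_comp_D] at h3
    simp only [map_smul, Derivation.liftKaehlerDifferential_comp_D, hδ] at h3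
    have h4 := hδ ⟨a, ha⟩
    rw [h3] at h4
    simp only [← map_smul, ← map_sum] at h4
    rw [Ideal.toCotangent_eq] at h4
    have h5 : a = ((∑ i, c i • x i : maximalIdeal R) : R) -
        (((∑ i, c i • x i : maximalIdeal R) : R) - a) := by ring
    rw [h5]
    refine sub_mem (Submodule.mem_sup_left ?_) (Submodule.mem_sup_right ?_)
    · have h6 : ((∑ i, c i • x i : maximalIdeal R) : R) = ∑ i, c i * (x i : R) := by
        simp
      rw [h6]
      exact sum_mem fun i _ => Ideal.mul_mem_left _ _ (Ideal.subset_span ⟨i, rfl⟩)
    · rw [smul_eq_mul, ← pow_two]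
      exact h4
  · intro i j
    change (Φ.symm (KaehlerDifferential.D k R (x j : R))) i = _
    rw [← hΦ, LinearEquiv.symm_apply_apply, Pi.single_apply]

end Kaehler

end K67.DerReg
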