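import Groth.Agent.CurvesB.SeriesEval
import Groth.Agent.CalgB.PowSer
import Groth.Agent.Ega41.FlatIso
import Groth.Agent.CAlg.K71.PowSubst
import Groth.Agent.CalgA.AdicLe
import Mathlib.RingTheory.MvPowerSeries.Equiv
import Mathlib.RingTheory.AdicCompletion.Noetherian
import Mathlib.Tactic.LinearCombination

/-!
# Presentations `A[[x, y]]/(xy - a) → B` of nodes over complete local rings
-/

set_option autoImplicit false

universe u

open IsLocalRing MvPowerSeries

namespace K67.NodeCpl

theorem mem_map_C_of_coeff_mem {ι R : Type*} [CommRing R] (I : Ideal R) (hI : I.FG)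
    (f : MvPowerSeries ι R) (h : ∀ d, coeff d f ∈ I) :
    f ∈ I.map (C : R →+* MvPowerSeries ι R) := by
  obtain ⟨n, a, rfl⟩ := Submodule.fg_iff_exists_fin_generating_family.mp hI
  choose c hc using fun d => (Ideal.mem_span_range_iff_exists_fun (v := a)).mp (h d)
  let F : Fin n → MvPowerSeries ι R := fun i d => c d i
  have h1 : f = ∑ i, F i * C (a i) := by
    ext d
    rw [map_sum, ← hc d]
    refine Finset.sum_congr rfl fun i _ => ?_
    rw [coeff_mul_C]
    rfl
  rw [h1]
  refine sum_mem fun i _ => Ideal.mul_mem_left _ _ (Ideal.mem_map_of_mem _ ?_)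
  exact Submodule.subset_span ⟨i, rfl⟩

theorem exists_limit {R : Type*} [CommRing R] (J : Ideal R) [IsAdicComplete J R] (f : ℕ → R)
    (hf : ∀ n, f (n + 1) - f n ∈ J ^ (n + 1)) : ∃ L, ∀ n, L - f n ∈ J ^ n := by
  have hc : ∀ {m n : ℕ}, m ≤ n → f m ≡ f n [SMOD (J ^ m • ⊤ : Submodule R R)] := by
    intro m n hmn
    rw [SModEq.sub_mem, smul_eq_mul, Ideal.mul_top]
    induction n, hmn using Nat.le_induction with
    | base => simp
    | succ k hk ih =>
      have h1 : f m - f (k + 1) = (f m - f k) - (f (k + 1) - f k) := by ring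
      rw [h1]
      exact sub_mem ih (Ideal.pow_le_pow_right (by omega) (hf k))
  obtain ⟨L, hL⟩ := IsPrecomplete.prec (I := J) (M := R) inferInstance hc
  refine ⟨L, fun n => ?_⟩
  have := hL n
  rw [SModEq.sub_mem, smul_eq_mul, Ideal.mul_top] at this
  rw [← neg_sub]
  exact neg_mem this

section

variable {A B : Type u} [CommRing A] [IsLocalRing A] [IsAdicComplete (maximalIdeal A) A]
  [CommRing B] [IsLocalRing B] [IsAdicComplete (maximalIdeal B) B] (σ : A →+* B)

theorem exists_lift [IsLocalHom σ] (hres : ∀ b : B, ∃ a : A, b - σ a ∈ maximalIdeal B) (u v : B) (a : A)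
    (hu : u ∈ maximalIdeal B) (hv : v ∈ maximalIdeal B) (huv : u * v = σ a)
    (hgen : maximalIdeal B ≤ Ideal.span {u, v} ⊔ (maximalIdeal A).map σ) :
    ∃ Φ : (MvPowerSeries (Fin 2) A ⧸ Ideal.span {(X 0 * X 1 - C a : MvPowerSeries (Fin 2) A)}) →+* B,
      Function.Surjective Φ ∧ Φ (Ideal.Quotient.mk _ (X 0)) = u ∧ Φ (Ideal.Quotient.mk _ (X 1)) = v ∧
        ∀ r, Φ (Ideal.Quotient.mk _ (C r)) = σ r := by
  let c : Fin 2 → B := ![u, v]
  have hc : ∀ i, c i ∈ maximalIdeal B := by
    intro i
    fin_cases i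
    · exact hu
    · exact hv
  let φ := Groth.Agent.CurvesB.SeriesEval.eval (maximalIdeal B) σ c hc
  have hX0 : φ (X 0) = u := Groth.Agent.CurvesB.SeriesEval.eval_X (maximalIdeal B) σ c hc 0
  have hX1 : φ (X 1) = v := Groth.Agent.CurvesB.SeriesEval.eval_X (maximalIdeal B) σ c hc 1
  have hC : ∀ r, φ (C r) = σ r := Groth.Agent.CurvesB.SeriesEval.eval_C (maximalIdeal B) σ c hc
  have hker : ∀ f ∈ Ideal.span {(X 0 * X 1 - C a : MvPowerSeries (Fin 2) A)}, φ f = 0 := by
    intro f hf
    have : Ideal.span {(X 0 * X 1 - C a : MvPowerSeries (Fin 2) A)} ≤ RingHom.ker φ := by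
      rw [Ideal.span_singleton_le_iff_mem, RingHom.mem_ker, map_sub, map_mul, hX0, hX1, hC, huv,
        sub_self]
    exact this hf
  refine ⟨Ideal.Quotient.lift _ φ hker, ?_, hX0, hX1, hC⟩
  refine Ideal.Quotient.lift_surjective_of_surjective _ hker ?_
  haveI := Groth.Agent.CalgB.PowSer.isAdicComplete_mvPowerSeries (A := A) 2
  have hmax : maximalIdeal B ≤ (maximalIdeal (MvPowerSeries (Fin 2) A)).map φ := by
    refine hgen.trans (sup_le ?_ ?_)
    · rw [Ideal.span_le]
      rintro _ (rfl | rfl)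
      · rw [← hX0]
        refine Ideal.mem_map_of_mem φ ?_
        rw [mem_maximalIdeal, mem_nonunits_iff, MvPowerSeries.isUnit_iff_constantCoeff]
        simp
      · rw [← hX1]
        refine Ideal.mem_map_of_mem φ ?_
        rw [mem_maximalIdeal, mem_nonunits_iff, MvPowerSeries.isUnit_iff_constantCoeff]
        simp
    · rw [Ideal.map_le_iff_le_comap]
      intro x hx
      rw [Ideal.mem_comap, ← hC]
      refine Ideal.mem_map_of_mem φ ?_
      rw [mem_maximalIdeal, mem_nonunits_iff, MvPowerSeries.isUnit_iff_constantCoeff,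
        constantCoeff_C]
      exact hx
  have hmax' : (maximalIdeal (MvPowerSeries (Fin 2) A)).map φ = maximalIdeal B := by
    refine le_antisymm ?_ hmax
    rw [Ideal.map_le_iff_le_comap]
    intro f hf
    rw [mem_maximalIdeal, mem_nonunits_iff, MvPowerSeries.isUnit_iff_constantCoeff] at hf
    have h1 : f - C (constantCoeff f) ∈ Ideal.span (Set.range (X : Fin 2 → MvPowerSeries (Fin 2) A)) := by
      rw [Groth.Agent.CurvesB.SeriesEval.mem_span_range_X_iff]
      simp
    have h2 : Ideal.span (Set.range (X : Fin 2 → MvPowerSeries (Fin 2) A)) ≤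
        (maximalIdeal B).comap φ := by
      rw [Ideal.span_le]
      rintro _ ⟨i, rfl⟩
      rw [SetLike.mem_coe, Ideal.mem_comap]
      fin_cases i
      · exact hX0 ▸ hu
      · exact hX1 ▸ hv
    have h3 : φ f = φ (f - C (constantCoeff f)) + σ (constantCoeff f) := by
      rw [map_sub, hC]; ring
    rw [Ideal.mem_comap, h3]
    refine add_mem (h2 h1) ?_
    have h4 : constantCoeff f ∈ maximalIdeal A := hf
    rw [← IsLocalRing.maximalIdeal_comap σ] at h4
    exact h4
  haveI : IsHausdorff ((maximalIdeal (MvPowerSeries (Fin 2) A)).map φ) B := by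
    rw [hmax']; infer_instance
  refine surjective_of_mk_map_comp_surjective (I := maximalIdeal (MvPowerSeries (Fin 2) A)) φ ?_
  intro y
  obtain ⟨b, rfl⟩ := Ideal.Quotient.mk_surjective y
  obtain ⟨r, hr⟩ := hres b
  refine ⟨C r, ?_⟩
  rw [RingHom.comp_apply, hC, Ideal.Quotient.eq, ← neg_sub, hmax']
  exact neg_mem hr

end

section Flat

variable {A B k : Type u} [CommRing A] [IsLocalRing A] [IsNoetherianRing A]
  [IsAdicComplete (maximalIdeal A) A]
  [CommRing B] [IsLocalRing B] [IsNoetherianRing B] [Field k] (σ : A →+* B)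

theorem injective_of_flat [IsLocalHom σ] (hflat : σ.Flat) (ρ : A →+* k) (hρ : Function.Surjective ρ)
    (hkρ : RingHom.ker ρ = maximalIdeal A) (a : A) (ha : a ∈ maximalIdeal A)
    (Φ : (MvPowerSeries (Fin 2) A ⧸ Ideal.span {(X 0 * X 1 - C a : MvPowerSeries (Fin 2) A)}) →+* B)
    (hΦ : Function.Surjective Φ) (hΦC : ∀ r, Φ (Ideal.Quotient.mk _ (C r)) = σ r)
    (e : (B ⧸ (maximalIdeal A).map σ) ≃+*
      (MvPowerSeries (Fin 2) k ⧸ Ideal.span {(X 0 * X 1 : MvPowerSeries (Fin 2) k)})) :
    Function.Injective Φ := by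
  let P := MvPowerSeries (Fin 2) A
  let R := P ⧸ Ideal.span {(X 0 * X 1 - C a : MvPowerSeries (Fin 2) A)}
  let π : P →+* R := Ideal.Quotient.mk _
  let θ : P →+* MvPowerSeries (Fin 2) k := MvPowerSeries.map ρ
  have hθ : Function.Surjective θ := by
    intro f
    choose g hg using fun d => hρ (coeff d f)
    refine ⟨(g : MvPowerSeries (Fin 2) A), ?_⟩
    ext d
    rw [coeff_map]
    exact hg d
  -- the ideal of the fibre
  let J : Ideal P := (maximalIdeal A).map (C : A →+* P) ⊔ Ideal.span {(X 0 * X 1 : P)}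
  have hJθ : ∀ f, θ f ∈ Ideal.span {(X 0 * X 1 : MvPowerSeries (Fin 2) k)} → f ∈ J := by
    intro f hf
    obtain ⟨g, hg⟩ := Ideal.mem_span_singleton'.mp hf
    obtain ⟨g', rfl⟩ := hθ g
    have h1 : θ (f - g' * (X 0 * X 1)) = 0 := by
      rw [map_sub, map_mul, map_mul, ← hg, MvPowerSeries.map_X, MvPowerSeries.map_X, sub_self]
    have h2 : f - g' * (X 0 * X 1) ∈ (maximalIdeal A).map (C : A →+* P) := by
      refine mem_map_C_of_coeff_mem _ (IsNoetherian.noetherian _) _ fun d => ?_
      rw [← hkρ, RingHom.mem_ker, ← coeff_map]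
      change coeff d (θ (f - g' * (X 0 * X 1))) = 0
      rw [h1, map_zero]
    have h3 : f = (f - g' * (X 0 * X 1)) + g' * (X 0 * X 1) := by ring
    rw [h3]
    exact add_mem (le_sup_left (a := (maximalIdeal A).map (C : A →+* P)) h2)
      (le_sup_right (a := (maximalIdeal A).map (C : A →+* P))
        (Ideal.mul_mem_left _ _ (Ideal.subset_span rfl)))
  have hJ : ∀ f ∈ J, Φ (π f) ∈ (maximalIdeal A).map σ := by
    have h1 : J ≤ ((maximalIdeal A).map σ).comap (Φ.comp π) := by
      refine sup_le ?_ ?_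
      · rw [Ideal.map_le_iff_le_comap]
        intro x hx
        rw [Ideal.mem_comap, Ideal.mem_comap, RingHom.comp_apply]
        change Φ (Ideal.Quotient.mk _ (C x)) ∈ _
        rw [hΦC]
        exact Ideal.mem_map_of_mem _ hx
      · rw [Ideal.span_singleton_le_iff_mem, Ideal.mem_comap, RingHom.comp_apply]
        have h2 : π (X 0 * X 1) = π (C a) := by
          change Ideal.Quotient.mk _ _ = Ideal.Quotient.mk _ _
          rw [Ideal.Quotient.eq]
          exact Ideal.subset_span rfl
        rw [h2]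
        change Φ (Ideal.Quotient.mk _ (C a)) ∈ _
        rw [hΦC]
        exact Ideal.mem_map_of_mem _ ha
    exact fun f hf => h1 hf
  -- the surjective endomorphism of `P ⧸ J`
  let q : (P ⧸ J) →+* (B ⧸ (maximalIdeal A).map σ) :=
    Ideal.quotientMap _ (Φ.comp π) (fun f hf => hJ f hf)
  have hq : Function.Surjective q := by
    intro y
    obtain ⟨b, rfl⟩ := Ideal.Quotient.mk_surjective y
    obtain ⟨r, rfl⟩ := hΦ b
    obtain ⟨f, rfl⟩ := Ideal.Quotient.mk_surjective r
    exact ⟨Ideal.Quotient.mk _ f, rfl⟩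
  have hle : J ≤ (Ideal.span {(X 0 * X 1 : MvPowerSeries (Fin 2) k)}).comap θ := by
    refine sup_le ?_ ?_
    · rw [Ideal.map_le_iff_le_comap]
      intro x hx
      rw [Ideal.mem_comap, Ideal.mem_comap]
      have : θ (C x) = 0 := by
        change MvPowerSeries.map ρ (C x) = 0
        rw [← hkρ, RingHom.mem_ker] at hx
        rw [MvPowerSeries.map_C, hx, map_zero]
      rw [this]
      exact zero_mem _
    · rw [Ideal.span_singleton_le_iff_mem, Ideal.mem_comap, map_mul, MvPowerSeries.map_X,
        MvPowerSeries.map_X]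
      exact Ideal.subset_span rfl
  let t : (P ⧸ J) ≃+* (MvPowerSeries (Fin 2) k ⧸ Ideal.span {(X 0 * X 1 : MvPowerSeries (Fin 2) k)}) :=
    RingEquiv.ofBijective (Ideal.quotientMap _ θ hle) (by
      constructor
      · rw [injective_iff_map_eq_zero]
        intro y hy
        obtain ⟨f, rfl⟩ := Ideal.Quotient.mk_surjective y
        rw [Ideal.quotientMap_mk, Ideal.Quotient.eq_zero_iff_mem] at hy
        rw [Ideal.Quotient.eq_zero_iff_mem]
        exact hJθ f hy
      · intro y
        obtain ⟨g, rfl⟩ := Ideal.Quotient.mk_surjective y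
        obtain ⟨f, rfl⟩ := hθ g
        exact ⟨Ideal.Quotient.mk _ f, rfl⟩)
  haveI : IsNoetherianRing P := inferInstance
  have hqinj : Function.Injective q := by
    let f : (P ⧸ J) →+* (P ⧸ J) := t.symm.toRingHom.comp (e.toRingHom.comp q)
    have hf : Function.Injective f :=
      K71.PowSubst.injective_of_surjective f
        (t.symm.surjective.comp (e.surjective.comp hq))
    exact Function.Injective.of_comp (f := fun z => t.symm (e z)) hf
  -- conclusion
  letI : Algebra A B := σ.toAlgebra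
  haveI : Module.Flat A B := hflat
  haveI hRnt : Nontrivial R := hΦ.nontrivial
  haveI : IsLocalRing R := IsLocalRing.of_surjective' (Ideal.Quotient.mk _) Ideal.Quotient.mk_surjective
  letI : Algebra A R := (π.comp (C : A →+* P)).toAlgebra
  let w : R →ₐ[A] B := { Φ with commutes' := fun r => hΦC r }
  have hmapR : (maximalIdeal A).map (algebraMap A R) = ((maximalIdeal A).map (C : A →+* P)).map π := by
    rw [Ideal.map_map]; rfl
  haveI : IsNoetherianRing R := inferInstance
  haveI hH : IsHausdorff ((maximalIdeal A).map (algebraMap A R)) R := by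
    have h1 : (maximalIdeal A).map (algebraMap A R) ≤ maximalIdeal R := by
      rw [Ideal.map_le_iff_le_comap]
      intro x hx
      have h2 : IsLocalHom (algebraMap A R) := by
        have h3 : IsLocalHom ((w : R →+* B).comp (algebraMap A R)) := by
          have : (w : R →+* B).comp (algebraMap A R) = σ := RingHom.ext fun r => hΦC r
          rw [this]; infer_instance
        exact isLocalHom_of_comp (algebraMap A R) (w : R →+* B)
      have := IsLocalRing.maximalIdeal_comap (algebraMap A R)
      rw [this]; exact hx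
    exact IsHausdorff.of_le_jacobson _ _ (h1.trans (IsLocalRing.maximalIdeal_le_jacobson _))
  refine Groth.Agent.Ega41.FlatIso.injective_of_flat (maximalIdeal A) w hΦ ?_
  intro x hx
  obtain ⟨f, rfl⟩ := Ideal.Quotient.mk_surjective x
  have h1 : q (Ideal.Quotient.mk _ f) = 0 := by
    change Ideal.Quotient.mk _ (Φ (π f)) = 0
    rw [Ideal.Quotient.eq_zero_iff_mem]
    exact hx
  have h2 : f ∈ J := by
    rw [← Ideal.Quotient.eq_zero_iff_mem]
    exact hqinj (by rw [h1, map_zero])
  obtain ⟨y, hy, z, hz, rfl⟩ := Submodule.mem_sup.mp h2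
  rw [hmapR, map_add]
  refine add_mem (Ideal.mem_map_of_mem π hy) ?_
  obtain ⟨g, rfl⟩ := Ideal.mem_span_singleton'.mp hz
  have h3 : (Ideal.Quotient.mk (Ideal.span {(X 0 * X 1 - C a : MvPowerSeries (Fin 2) A)}))
      (g * (X 0 * X 1)) = π (g * C a) := by
    change Ideal.Quotient.mk _ _ = Ideal.Quotient.mk _ _
    rw [Ideal.Quotient.eq, ← mul_sub]
    exact Ideal.mul_mem_left _ _ (Ideal.subset_span rfl)
  rw [h3]
  exact Ideal.mem_map_of_mem π (Ideal.mul_mem_left _ _ (Ideal.mem_map_of_mem _ ha))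

end Flat

end K67.NodeCpl
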