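import Groth.Agent.CAlg.K67.NodeCpl
import Groth.Agent.CalgB.PowSerMap
import Groth.Agent.CalgB.FlatLift
import Groth.Agent.Ega4A.CplFlat
import Mathlib.RingTheory.Localization.AtPrime.Basic

/-!
# The completion of the local ring of `Λ[x, y]/(xy - u)` at the origin, `Λ` complete local

* `exists_cpl_equiv`: abstract criterion for the completion of `D` to be `Λ[[x, y]]/(xy - u)`.
* `exists_node_stalk`: the case of any localization of `Λ[x, y]/(xy - u)` at the origin.
-/

set_option autoImplicit false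

universe u

open IsLocalRing

namespace K67.NodeCpl

/-- the ring `Λ[[x, y]]/(xy - u)` -/
abbrev NC (Λ : Type u) [CommRing Λ] (u : Λ) : Type u :=
  MvPowerSeries (Fin 2) Λ ⧸ Ideal.span {(MvPowerSeries.X 0 * MvPowerSeries.X 1 - MvPowerSeries.C u :
    MvPowerSeries (Fin 2) Λ)}

section

variable {Λ : Type u} [CommRing Λ] [IsLocalRing Λ]

theorem nontrivial_nc (u : Λ) (hu : u ∈ maximalIdeal Λ) : Nontrivial (NC Λ u) := by
  refine Ideal.Quotient.nontrivial_iff.mpr fun h => ?_
  have h1 : Ideal.span {(MvPowerSeries.X 0 * MvPowerSeries.X 1 - MvPowerSeries.C u :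
    MvPowerSeries (Fin 2) Λ)} ≤ maximalIdeal (MvPowerSeries (Fin 2) Λ) := by
    rw [Ideal.span_singleton_le_iff_mem, mem_maximalIdeal, mem_nonunits_iff,
      MvPowerSeries.isUnit_iff_constantCoeff]
    simp only [map_sub, map_mul, MvPowerSeries.constantCoeff_X, MvPowerSeries.constantCoeff_C,
      mul_zero, zero_sub, IsUnit.neg_iff]
    exact hu
  rw [h, top_le_iff] at h1
  exact (IsLocalRing.maximalIdeal.isMaximal _).ne_top h1

theorem isLocalRing_nc (u : Λ) (hu : u ∈ maximalIdeal Λ) : IsLocalRing (NC Λ u) := by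
  haveI := nontrivial_nc u hu
  exact IsLocalRing.of_surjective' (Ideal.Quotient.mk _) Ideal.Quotient.mk_surjective

theorem exists_cpl_equiv [IsNoetherianRing Λ] [IsAdicComplete (maximalIdeal Λ) Λ]
    {D : Type u} [CommRing D] [IsLocalRing D] [IsNoetherianRing D] (σ : Λ →+* D) [IsLocalHom σ]
    (hres : ∀ d : D, ∃ a : Λ, d - σ a ∈ maximalIdeal D) (x y : D) (u : Λ) (hu : u ∈ maximalIdeal Λ)
    (hx : x ∈ maximalIdeal D) (hy : y ∈ maximalIdeal D) (hxy : x * y = σ u)
    (hgen : maximalIdeal D ≤ Ideal.span {x, y} ⊔ (maximalIdeal Λ).map σ)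
    (j : D →+* NC Λ u) (hj : (maximalIdeal D).map j ≠ ⊤)
    (hjσ : ∀ a, j (σ a) = Ideal.Quotient.mk _ (MvPowerSeries.C a))
    (hjx : j x = Ideal.Quotient.mk _ (MvPowerSeries.X 0))
    (hjy : j y = Ideal.Quotient.mk _ (MvPowerSeries.X 1)) :
    ∃ e : AdicCompletion (maximalIdeal D) D ≃+* NC Λ u,
      ∀ a : Λ, e (algebraMap D _ (σ a)) = Ideal.Quotient.mk _ (MvPowerSeries.C a) := by
  haveI := isLocalRing_nc u hu
  haveI := Groth.Agent.Ega4A.CplFlat.isNoetherianRing_cpl D
  let D' := AdicCompletion (maximalIdeal D) D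
  let ι : D →+* D' := algebraMap D D'
  have hι : ∀ d ∈ maximalIdeal D, ι d ∈ maximalIdeal D' := by
    intro d hd
    rw [AdicCompletion.maximalIdeal_eq_map]
    exact Ideal.mem_map_of_mem _ hd
  haveI : IsLocalHom ι := inferInstance
  obtain ⟨Φ, hΦ, hX, hY, hC⟩ := exists_lift (A := Λ) (B := D') (ι.comp σ) (fun b => by
    obtain ⟨r, hr⟩ := (AdicCompletion.residueField_map_bijective D).2 (residue _ b)
    obtain ⟨b₀, rfl⟩ := residue_surjective r
    obtain ⟨a, ha⟩ := hres b₀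
    refine ⟨a, ?_⟩
    rw [ResidueField.map_residue] at hr
    have h1 : b - ι b₀ ∈ maximalIdeal D' := by
      rw [← residue_eq_zero_iff, map_sub, ← hr, sub_self]
    have h2 := add_mem h1 (hι _ ha)
    rw [map_sub, sub_add_sub_cancel] at h2
    exact h2) (ι x) (ι y) u (hι _ hx) (hι _ hy) (by rw [← map_mul, hxy]; rfl) (by
    rw [AdicCompletion.maximalIdeal_eq_map]
    refine (Ideal.map_mono hgen).trans ?_
    rw [Ideal.map_sup, Ideal.map_span, Set.image_pair, Ideal.map_map])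
  -- the map back
  have hjm : maximalIdeal D ≤ (maximalIdeal (NC Λ u)).comap j := by
    rw [← Ideal.map_le_iff_le_comap]
    exact IsLocalRing.le_maximalIdeal hj
  haveI hNP : IsNoetherianRing (MvPowerSeries (Fin 2) Λ) := inferInstance
  haveI := Groth.Agent.CalgB.PowSer.isAdicComplete_mvPowerSeries (A := Λ) 2
  haveI hCc : IsAdicComplete (maximalIdeal (NC Λ u)) (NC Λ u) :=
    Groth.Agent.CalgB.FlatLift.isAdicComplete_of_surjective (Ideal.Quotient.mk _)
      Ideal.Quotient.mk_surjective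
  let ψ : D' →+* NC Λ u :=
    ((AdicCompletion.ofAlgEquiv (maximalIdeal (NC Λ u))).symm.toRingEquiv.toRingHom).comp
      (Groth.Agent.CurvesB.CplMap.map (maximalIdeal D) (maximalIdeal (NC Λ u)) j hjm)
  have hψ : ∀ d, ψ (ι d) = j d := by
    intro d
    change (AdicCompletion.ofAlgEquiv (maximalIdeal (NC Λ u))).symm
      (Groth.Agent.CurvesB.CplMap.map (maximalIdeal D) (maximalIdeal (NC Λ u)) j hjm
        (algebraMap D D' d)) = j d
    rw [Groth.Agent.CurvesB.CplMap.map_algebraMap]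
    exact AdicCompletion.ofAlgEquiv_symm_of _ (j d)
  have hcomp : (ψ.comp Φ).comp (Ideal.Quotient.mk _) = Ideal.Quotient.mk _ := by
    refine Groth.Agent.CalgB.PowSerMap.ringHom_ext (maximalIdeal (NC Λ u)) _ _ ?_ ?_ ?_
    · intro i
      rw [RingHom.comp_apply, RingHom.comp_apply]
      fin_cases i
      · change ψ (Φ (Ideal.Quotient.mk _ (MvPowerSeries.X 0))) ∈ _
        rw [hX, hψ]
        exact hjm hx
      · change ψ (Φ (Ideal.Quotient.mk _ (MvPowerSeries.X 1))) ∈ _
        rw [hY, hψ]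
        exact hjm hy
    · intro i
      rw [RingHom.comp_apply, RingHom.comp_apply]
      fin_cases i
      · change ψ (Φ (Ideal.Quotient.mk _ (MvPowerSeries.X 0))) = _
        rw [hX, hψ]
        exact hjx
      · change ψ (Φ (Ideal.Quotient.mk _ (MvPowerSeries.X 1))) = _
        rw [hY, hψ]
        exact hjy
    · intro r
      change ψ (Φ (Ideal.Quotient.mk _ (MvPowerSeries.C r))) = _
      rw [hC]
      exact (hψ (σ r)).trans (hjσ r)
  have hinj : Function.Injective Φ := by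
    have h1 : ∀ c, ψ (Φ c) = c := by
      intro c
      obtain ⟨f, rfl⟩ := Ideal.Quotient.mk_surjective c
      exact RingHom.congr_fun hcomp f
    exact Function.LeftInverse.injective h1
  refine ⟨(RingEquiv.ofBijective Φ ⟨hinj, hΦ⟩).symm, fun a => ?_⟩
  rw [RingEquiv.symm_apply_eq]
  exact (hC a).symm

/-- the ring `Λ[x, y]/(xy - u)` -/
abbrev NA (Λ : Type u) [CommRing Λ] (u : Λ) : Type u :=
  MvPolynomial (Fin 2) Λ ⧸ Ideal.span {(MvPolynomial.X 0 * MvPolynomial.X 1 - MvPolynomial.C u :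
    MvPolynomial (Fin 2) Λ)}

/-- `Λ[x, y]/(xy - u) → Λ[[x, y]]/(xy - u)` -/
noncomputable def toNC (u : Λ) : NA Λ u →+* NC Λ u :=
  Ideal.quotientMap _ (MvPolynomial.coeToMvPowerSeries.ringHom (σ := Fin 2) (R := Λ)) (by
    rw [Ideal.span_singleton_le_iff_mem, Ideal.mem_comap]
    simp only [map_sub, map_mul]
    refine Ideal.subset_span ?_
    simp)

theorem toNC_mk (u : Λ) (p : MvPolynomial (Fin 2) Λ) :
    toNC u (Ideal.Quotient.mk _ p) = Ideal.Quotient.mk _ (p : MvPowerSeries (Fin 2) Λ) := rfl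

/-- the origin -/
noncomputable def orig (u : Λ) (hu : u ∈ maximalIdeal Λ) : Ideal (NA Λ u) :=
  haveI := isLocalRing_nc u hu
  (maximalIdeal (NC Λ u)).comap (toNC u)

instance (u : Λ) (hu : u ∈ maximalIdeal Λ) : (orig u hu).IsPrime :=
  haveI := isLocalRing_nc u hu
  Ideal.comap_isPrime _ _

theorem mk_mem_max_iff (u : Λ) (hu : u ∈ maximalIdeal Λ) (f : MvPowerSeries (Fin 2) Λ) :
    haveI := isLocalRing_nc u hu
    (Ideal.Quotient.mk _ f : NC Λ u) ∈ maximalIdeal (NC Λ u) ↔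
      MvPowerSeries.constantCoeff f ∈ maximalIdeal Λ := by
  haveI := isLocalRing_nc u hu
  have h1 : IsLocalHom (Ideal.Quotient.mk (Ideal.span {(MvPowerSeries.X 0 * MvPowerSeries.X 1 -
      MvPowerSeries.C u : MvPowerSeries (Fin 2) Λ)})) :=
    IsLocalHom.of_surjective _ Ideal.Quotient.mk_surjective
  have h2 := IsLocalRing.maximalIdeal_comap (Ideal.Quotient.mk (Ideal.span
    {(MvPowerSeries.X 0 * MvPowerSeries.X 1 - MvPowerSeries.C u : MvPowerSeries (Fin 2) Λ)}))
  have h3 : (Ideal.Quotient.mk _ f : NC Λ u) ∈ maximalIdeal (NC Λ u) ↔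
      f ∈ maximalIdeal (MvPowerSeries (Fin 2) Λ) := by
    rw [← h2]; rfl
  rw [h3, Groth.Agent.CalgB.PowSerMap.mem_maximalIdeal_iff]

theorem mk_mem_orig_iff (u : Λ) (hu : u ∈ maximalIdeal Λ) (p : MvPolynomial (Fin 2) Λ) :
    (Ideal.Quotient.mk _ p : NA Λ u) ∈ orig u hu ↔ MvPolynomial.constantCoeff p ∈ maximalIdeal Λ := by
  haveI := isLocalRing_nc u hu
  rw [orig, Ideal.mem_comap, toNC_mk, mk_mem_max_iff u hu]
  rw [← MvPowerSeries.coeff_zero_eq_constantCoeff_apply, MvPolynomial.coeff_coe]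
  rfl

theorem orig_le (u : Λ) (hu : u ∈ maximalIdeal Λ) :
    orig u hu ≤ Ideal.span {(Ideal.Quotient.mk _ (MvPolynomial.X 0) : NA Λ u),
      Ideal.Quotient.mk _ (MvPolynomial.X 1)} ⊔
      (maximalIdeal Λ).map ((Ideal.Quotient.mk _).comp MvPolynomial.C : Λ →+* NA Λ u) := by
  intro z hz
  obtain ⟨p, rfl⟩ := Ideal.Quotient.mk_surjective z
  rw [mk_mem_orig_iff] at hz
  have h1 : p - MvPolynomial.C (MvPolynomial.constantCoeff p) ∈ MvPolynomial.idealOfVars (Fin 2) Λ := by
    have := (MvPolynomial.mem_pow_idealOfVars_iff' (R := Λ) (σ := Fin 2) 1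
      (p - MvPolynomial.C (MvPolynomial.constantCoeff p))).mpr (fun x hx => by
      have hx0 : x = 0 := by
        have h4 := Nat.lt_one_iff.mp hx
        rwa [Finsupp.degree_eq_zero_iff] at h4
      subst hx0
      simp [MvPolynomial.constantCoeff_eq])
    rwa [pow_one] at this
  have h2 : Ideal.Quotient.mk _ p = (Ideal.Quotient.mk _ (p - MvPolynomial.C (MvPolynomial.constantCoeff p)) : NA Λ u) +
      ((Ideal.Quotient.mk _).comp MvPolynomial.C : Λ →+* NA Λ u) (MvPolynomial.constantCoeff p) := by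
    rw [RingHom.comp_apply, ← map_add, sub_add_cancel]
  rw [h2]
  refine add_mem (le_sup_left (a := Ideal.span {(Ideal.Quotient.mk _ (MvPolynomial.X 0) : NA Λ u),
      Ideal.Quotient.mk _ (MvPolynomial.X 1)}) ?_) (le_sup_right (a := Ideal.span {(Ideal.Quotient.mk _ (MvPolynomial.X 0) : NA Λ u),
      Ideal.Quotient.mk _ (MvPolynomial.X 1)}) (Ideal.mem_map_of_mem _ hz))
  have h3 := Ideal.mem_map_of_mem (Ideal.Quotient.mk (Ideal.span {(MvPolynomial.X 0 * MvPolynomial.X 1 - MvPolynomial.C u :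
    MvPolynomial (Fin 2) Λ)})) h1
  rw [Ideal.map_span] at h3
  refine Ideal.span_mono ?_ h3
  rintro _ ⟨_, ⟨i, rfl⟩, rfl⟩
  fin_cases i
  · exact Or.inl rfl
  · exact Or.inr rfl

theorem exists_sub_mem_of_atPrime {R D : Type*} [CommRing R] (P : Ideal R) [P.IsPrime] [CommRing D]
    [IsLocalRing D] [Algebra R D] [IsLocalization.AtPrime D P] (T : Set R)
    (h : ∀ p s : R, s ∉ P → ∃ b ∈ T, p - s * b ∈ P) (d : D) :
    ∃ b ∈ T, d - algebraMap R D b ∈ maximalIdeal D := by
  obtain ⟨p, s, rfl⟩ := IsLocalization.exists_mk'_eq P.primeCompl d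
  obtain ⟨b, hb, hpb⟩ := h p s s.2
  refine ⟨b, hb, ?_⟩
  rw [← Ideal.unit_mul_mem_iff_mem _ (IsLocalization.map_units D s), mul_sub,
    IsLocalization.mk'_spec', ← map_mul, ← map_sub, IsLocalization.AtPrime.to_map_mem_maximal_iff D P]
  exact hpb

/-- The completion of a localization of `Λ[x, y]/(xy - u)` at the origin. -/
theorem exists_node_stalk [IsNoetherianRing Λ] [IsAdicComplete (maximalIdeal Λ) Λ] (u : Λ)
    (hu : u ∈ maximalIdeal Λ) (D : Type u) [CommRing D] [IsLocalRing D] [Algebra (NA Λ u) D]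
    [IsLocalization.AtPrime D (orig u hu)] :
    ∃ e : AdicCompletion (maximalIdeal D) D ≃+* NC Λ u,
      ∀ a : Λ, e (algebraMap D _ (algebraMap (NA Λ u) D (Ideal.Quotient.mk _ (MvPolynomial.C a)))) =
        Ideal.Quotient.mk _ (MvPowerSeries.C a) := by
  haveI := isLocalRing_nc u hu
  haveI : IsNoetherianRing D := IsLocalization.isNoetherianRing (orig u hu).primeCompl D inferInstance
  let ρ : Λ →+* NA Λ u := (Ideal.Quotient.mk _).comp MvPolynomial.C
  let σ : Λ →+* D := (algebraMap (NA Λ u) D).comp ρ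
  have hmem : ∀ z : NA Λ u, algebraMap (NA Λ u) D z ∈ maximalIdeal D ↔ z ∈ orig u hu := fun z =>
    IsLocalization.AtPrime.to_map_mem_maximal_iff D (orig u hu) z
  have hρ : ∀ a, ρ a ∈ orig u hu ↔ a ∈ maximalIdeal Λ := by
    intro a
    change (Ideal.Quotient.mk _ (MvPolynomial.C a) : NA Λ u) ∈ orig u hu ↔ _
    rw [mk_mem_orig_iff, MvPolynomial.constantCoeff_C]
  haveI : IsLocalHom σ := by
    refine ⟨fun a ha => ?_⟩
    by_contra h
    have h1 : a ∈ maximalIdeal Λ := h
    rw [← hρ, ← hmem] at h1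
    exact h1 ha
  -- units
  have hunit : ∀ z : (orig u hu).primeCompl, IsUnit (toNC u z) := by
    rintro ⟨z, hz⟩
    by_contra h
    exact hz h
  let j : D →+* NC Λ u := IsLocalization.lift (M := (orig u hu).primeCompl) hunit
  have hj : ∀ z, j (algebraMap _ D z) = toNC u z := IsLocalization.lift_eq hunit
  have hmax : maximalIdeal D = (orig u hu).map (algebraMap (NA Λ u) D) :=
    (IsLocalization.AtPrime.map_eq_maximalIdeal (orig u hu) D).symm
  refine exists_cpl_equiv σ ?_ (algebraMap (NA Λ u) D (Ideal.Quotient.mk _ (MvPolynomial.X 0)))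
    (algebraMap (NA Λ u) D (Ideal.Quotient.mk _ (MvPolynomial.X 1))) u hu ?_ ?_ ?_ ?_ j ?_ ?_ ?_ ?_
  · intro d
    obtain ⟨b, ⟨a, rfl⟩, hb⟩ := exists_sub_mem_of_atPrime (orig u hu) (Set.range ρ) (by
      intro z s hs
      obtain ⟨p, rfl⟩ := Ideal.Quotient.mk_surjective z
      obtain ⟨q, rfl⟩ := Ideal.Quotient.mk_surjective s
      have hq : IsUnit (MvPolynomial.constantCoeff q) := by
        by_contra h
        exact hs ((mk_mem_orig_iff u hu q).mpr h)
      obtain ⟨v, hv⟩ := hq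
      refine ⟨_, ⟨MvPolynomial.constantCoeff p * (↑v⁻¹ : Λ), rfl⟩, ?_⟩
      change (Ideal.Quotient.mk _ p : NA Λ u) - Ideal.Quotient.mk _ q * Ideal.Quotient.mk _ (MvPolynomial.C (MvPolynomial.constantCoeff p * (↑v⁻¹ : Λ))) ∈ _
      rw [← map_mul, ← map_sub, mk_mem_orig_iff]
      have h1 : MvPolynomial.constantCoeff (p - q * MvPolynomial.C (MvPolynomial.constantCoeff p * (↑v⁻¹ : Λ))) = 0 := by
        rw [map_sub, map_mul, MvPolynomial.constantCoeff_C, ← hv, mul_left_comm, Units.mul_inv,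
          mul_one, sub_self]
      rw [h1]
      exact zero_mem _) d
    exact ⟨a, hb⟩
  · rw [hmem, mk_mem_orig_iff]; simp
  · rw [hmem, mk_mem_orig_iff]; simp
  · rw [← map_mul, ← map_mul]
    change _ = algebraMap (NA Λ u) D (Ideal.Quotient.mk _ (MvPolynomial.C u))
    congr 1
    rw [Ideal.Quotient.eq]
    exact Ideal.subset_span rfl
  · rw [hmax]
    refine (Ideal.map_mono (orig_le u hu)).trans ?_
    rw [Ideal.map_sup, Ideal.map_span, Set.image_pair, Ideal.map_map]
  · intro h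
    have h1 : (maximalIdeal D).map j ≤ maximalIdeal (NC Λ u) := by
      rw [hmax, Ideal.map_map, Ideal.map_le_iff_le_comap]
      intro z hz
      rw [Ideal.mem_comap, RingHom.comp_apply, hj]
      exact hz
    rw [h, top_le_iff] at h1
    exact (IsLocalRing.maximalIdeal.isMaximal _).ne_top h1
  · intro a
    change j (algebraMap _ D (Ideal.Quotient.mk _ (MvPolynomial.C a))) = _
    rw [hj, toNC_mk, MvPolynomial.coe_C]
  · rw [hj, toNC_mk, MvPolynomial.coe_X]
  · rw [hj, toNC_mk, MvPolynomial.coe_X]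

end

end K67.NodeCpl
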