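import Groth.Agent.CAlg.K67.NodeSmooth
import Groth.Agent.S7203
import Groth.Agent.CalgB.GRingComplete
import Groth.Agent.Ega4B.GRingLoc
import Groth.Prelude.Def_Coh

/-!
# Points near a node `Λ⟦x, y⟧/(xy - u)` over `Spec Λ[1/u]` are smooth of relative dimension one
-/

set_option autoImplicit false

universe u

open CategoryTheory CategoryTheory.Limits AlgebraicGeometry IsLocalRing

namespace K67.NodeMain

open K67.NodeCpl K67.NodeSmooth

theorem germ_eq_algebraMap (R : Type u) [CommRing R] (x : Spec (CommRingCat.of R)) (r : R) :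
    letI : Algebra R ↑((Spec (CommRingCat.of R)).presheaf.stalk x) := StructureSheaf.stalkAlgebra R x
    algebraMap R ((Spec (CommRingCat.of R)).presheaf.stalk x) r =
      (Spec (CommRingCat.of R)).presheaf.germ ⊤ x trivial ((Scheme.ΓSpecIso (CommRingCat.of R)).inv r) :=
  rfl

theorem stalkMap_germ {X : Scheme.{u}} {Λ : Type u} [CommRing Λ] (f : X ⟶ Spec (CommRingCat.of Λ))
    (p : X) (c : Λ) :
    (f.stalkMap p).hom ((Spec (CommRingCat.of Λ)).presheaf.germ ⊤ (f p) trivial
      ((Scheme.ΓSpecIso (CommRingCat.of Λ)).inv c)) =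
      ((X.presheaf.germ ⊤ p trivial).hom.comp (Coh.toGlobal f)) c :=
  Scheme.Hom.germ_stalkMap_apply f ⊤ p trivial _

theorem toGlobal_specMap {Λ B : Type u} [CommRing Λ] [CommRing B] (h : Λ →+* B) (c : Λ) :
    Coh.toGlobal (Spec.map (CommRingCat.ofHom h)) c = (Scheme.ΓSpecIso (CommRingCat.of B)).inv (h c) :=
  (ConcreteCategory.congr_hom (Scheme.ΓSpecIso_inv_naturality (CommRingCat.ofHom h)) c).symm

theorem exists_nbhd_of_node {Λ : Type u} [CommRing Λ] [IsLocalRing Λ] [IsNoetherianRing Λ]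
    [IsAdicComplete (maximalIdeal Λ) Λ] (u : Λ) (hu : u ∈ maximalIdeal Λ) {X : Scheme.{u}}
    (f : X ⟶ Spec (CommRingCat.of Λ)) [LocallyOfFiniteType f] (p : X)
    (hp : f p = IsLocalRing.closedPoint Λ)
    (eX : AdicCompletion (maximalIdeal (X.presheaf.stalk p)) (X.presheaf.stalk p) ≃+* NC Λ u)
    (heX : ∀ c : Λ, eX (algebraMap (X.presheaf.stalk p) _
      (((X.presheaf.germ ⊤ p trivial).hom.comp (Coh.toGlobal f)) c)) =
        Ideal.Quotient.mk _ (MvPowerSeries.C c)) (q : X) (hq : q ⤳ p) (huq : u ∉ (f q).asIdeal) :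
    ∃ V : X.Opens, q ∈ V ∧ SmoothOfRelativeDimension 1 (V.ι ≫ f) := by
  let S : Scheme.{u} := Spec (CommRingCat.of Λ)
  let Y : Scheme.{u} := Spec (CommRingCat.of (NA Λ u))
  let y : Y := ⟨orig u hu, inferInstance⟩
  let gY : Y ⟶ S := str u
  letI : Algebra (NA Λ u) (Y.presheaf.stalk y) := StructureSheaf.stalkAlgebra (NA Λ u) y
  haveI : IsLocalization.AtPrime (Y.presheaf.stalk y) (orig u hu) :=
    StructureSheaf.IsLocalization.to_stalk (NA Λ u) y
  obtain ⟨eY, heY⟩ := exists_node_stalk u hu (Y.presheaf.stalk y)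
  let φ := eY.trans eX.symm
  have hy : gY y = closedPoint Λ := by
    apply PrimeSpectrum.ext
    ext a
    change Ideal.Quotient.mk _ (MvPolynomial.C a) ∈ orig u hu ↔ a ∈ maximalIdeal Λ
    rw [mk_mem_orig_iff]
    simp
  have hxy : f p = gY y := hp.trans hy.symm
  haveI : IsLocallyNoetherian S := by
    haveI : IsNoetherianRing (CommRingCat.of Λ) := inferInstanceAs (IsNoetherianRing Λ)
    infer_instance
  have hG : CAlg.IsGRing (S.presheaf.stalk (f p)) := by
    letI : Algebra Λ (S.presheaf.stalk (f p)) := StructureSheaf.stalkAlgebra Λ (f p)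
    haveI : IsLocalization.AtPrime (S.presheaf.stalk (f p)) (f p).asIdeal :=
      StructureSheaf.IsLocalization.to_stalk Λ (f p)
    exact Groth.Agent.Ega4B.GRingLoc.isGRing_of_isLocalization Λ _ (f p).asIdeal.primeCompl
      (Groth.Agent.CalgB.GRingComplete.isGRing Λ)
  have hφ : φ.toRingHom.comp ((algebraMap ↑(Y.presheaf.stalk y) (AdicCompletion (IsLocalRing.maximalIdeal ↑(Y.presheaf.stalk y)) ↑(Y.presheaf.stalk y))).comp
        ((gY.stalkMap y).hom.comp (S.presheaf.stalkCongr (Inseparable.of_eq hxy)).hom.hom)) =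
      (algebraMap ↑(X.presheaf.stalk p) (AdicCompletion (IsLocalRing.maximalIdeal ↑(X.presheaf.stalk p)) ↑(X.presheaf.stalk p))).comp (f.stalkMap p).hom := by
    letI : Algebra Λ (S.presheaf.stalk (f p)) := StructureSheaf.stalkAlgebra Λ (f p)
    haveI : IsLocalization.AtPrime (S.presheaf.stalk (f p)) (f p).asIdeal :=
      StructureSheaf.IsLocalization.to_stalk Λ (f p)
    refine IsLocalization.ringHom_ext (f p).asIdeal.primeCompl (RingHom.ext fun c => ?_)
    have h1 : (S.presheaf.stalkCongr (Inseparable.of_eq hxy)).hom.hom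
        (algebraMap Λ (S.presheaf.stalk (f p)) c) =
        S.presheaf.germ ⊤ (gY y) trivial ((Scheme.ΓSpecIso (CommRingCat.of Λ)).inv c) := by
      rw [germ_eq_algebraMap]
      exact TopCat.Presheaf.germ_stalkSpecializes_apply (F := S.presheaf) (U := ⊤) trivial
        (Inseparable.of_eq hxy.symm).specializes _
    have h2 : (gY.stalkMap y).hom ((S.presheaf.stalkCongr (Inseparable.of_eq hxy)).hom.hom
        (algebraMap Λ (S.presheaf.stalk (f p)) c)) =
        algebraMap (NA Λ u) (Y.presheaf.stalk y) (Ideal.Quotient.mk _ (MvPolynomial.C c)) := by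
      rw [h1, stalkMap_germ, germ_eq_algebraMap]
      change Y.presheaf.germ ⊤ y trivial (Coh.toGlobal (str u) c) = _
      rw [toGlobal_specMap]
      rfl
    change φ (algebraMap _ _ ((gY.stalkMap y).hom ((S.presheaf.stalkCongr (Inseparable.of_eq hxy)).hom.hom
        (algebraMap Λ (S.presheaf.stalk (f p)) c)))) = algebraMap _ _ ((f.stalkMap p).hom
        (algebraMap Λ (S.presheaf.stalk (f p)) c))
    have h5 : (f.stalkMap p).hom (algebraMap Λ (S.presheaf.stalk (f p)) c) =
        ((X.presheaf.germ ⊤ p trivial).hom.comp (Coh.toGlobal f)) c := stalkMap_germ f p c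
    rw [h2, h5]
    change eX.symm (eY _) = _
    rw [heY, ← heX, eX.symm_apply_apply]
  obtain ⟨U, w, e, hew, g, hgw, he, -, hg, -, hcomp, -⟩ :=
    Groth.Agent.S7203.result f gY p y hxy hG φ hφ 1 le_rfl
  haveI := he
  haveI := hg
  obtain ⟨z, hz⟩ : q ∈ Set.range e := hq.mem_open e.isOpenMap.isOpen_range ⟨w, hew⟩
  have h1 : (str u) (g z) = f q := by
    rw [← hz, ← Scheme.Hom.comp_apply, ← Scheme.Hom.comp_apply]
    exact congrArg (fun t : U ⟶ S => t z) hcomp
  obtain ⟨W, hzW, hW⟩ := exists_smooth_nbhd u (g z) (by rw [h1]; exact huq)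
  have h2 : SmoothOfRelativeDimension 1 ((g ⁻¹ᵁ W).ι ≫ e ≫ f) := by
    have h3 : (g ⁻¹ᵁ W).ι ≫ e ≫ f = (g ∣_ W) ≫ W.ι ≫ str u := by
      rw [← hcomp, ← Category.assoc, ← Category.assoc, morphismRestrict_ι]
    rw [h3]
    haveI : Etale (g ∣_ W) := inferInstance
    have h4 : SmoothOfRelativeDimension (0 + 1) ((g ∣_ W) ≫ W.ι ≫ str u) := inferInstance
    simpa using h4
  obtain ⟨V, hV, hV'⟩ := exists_nbhd_of_etale 1 e f z (g ⁻¹ᵁ W) hzW h2
  rw [hz] at hV
  exact ⟨V, hV, hV'⟩

end K67.NodeMain
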