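import Groth.Agent.CAlg.K67.NodeCpl2
import Groth.Agent.FlatB.AffSpaceSmooth
import Groth.Agent.S0115
import Groth.Agent.Dual.H328.RelDimDec
import Mathlib.AlgebraicGeometry.Morphisms.Etale
import Mathlib.AlgebraicGeometry.Morphisms.Smooth

/-!
# `Spec Λ[x, y]/(xy - u)` is smooth of relative dimension one where `u ≠ 0`; descent of the relative
dimension along étale morphisms
-/

set_option autoImplicit false

universe u

open CategoryTheory CategoryTheory.Limits AlgebraicGeometry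

namespace K67.NodeSmooth

open K67.NodeCpl

section Ring

variable {Λ : Type u} [CommRing Λ] (u : Λ)

theorem exists_awayEquiv :
    ∃ e : Localization.Away (Ideal.Quotient.mk _ (MvPolynomial.X 0) : NA Λ u) ≃+*
      Localization.Away (MvPolynomial.X 0 : MvPolynomial (Fin 1) Λ),
      ∀ a : Λ, e (algebraMap (NA Λ u) _ (Ideal.Quotient.mk _ (MvPolynomial.C a))) =
        algebraMap (MvPolynomial (Fin 1) Λ) _ (MvPolynomial.C a) := by
  let x : NA Λ u := Ideal.Quotient.mk _ (MvPolynomial.X 0)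
  let y : NA Λ u := Ideal.Quotient.mk _ (MvPolynomial.X 1)
  let L := Localization.Away x
  let T := Localization.Away (MvPolynomial.X 0 : MvPolynomial (Fin 1) Λ)
  let ι : MvPolynomial (Fin 1) Λ →+* T := algebraMap _ _
  let κ : NA Λ u →+* L := algebraMap _ _
  obtain ⟨X', hX'⟩ : ∃ v : T, ι (MvPolynomial.X 0) * v = 1 :=
    (IsLocalization.Away.algebraMap_isUnit (S := T) (MvPolynomial.X 0 : MvPolynomial (Fin 1) Λ)).exists_right_inv
  let α0 : MvPolynomial (Fin 2) Λ →+* T :=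
    MvPolynomial.eval₂Hom (ι.comp MvPolynomial.C) ![ι (MvPolynomial.X 0), ι (MvPolynomial.C u) * X']
  have hα0C : ∀ a, α0 (MvPolynomial.C a) = ι (MvPolynomial.C a) := fun a => by
    simp [α0]
  have hα0X : α0 (MvPolynomial.X 0) = ι (MvPolynomial.X 0) := by simp [α0]
  have hα0Y : α0 (MvPolynomial.X 1) = ι (MvPolynomial.C u) * X' := by simp [α0]
  let α : NA Λ u →+* T := Ideal.Quotient.lift _ α0 (fun f hf => by
    have h1 : Ideal.span {(MvPolynomial.X 0 * MvPolynomial.X 1 - MvPolynomial.C u :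
        MvPolynomial (Fin 2) Λ)} ≤ RingHom.ker α0 := by
      rw [Ideal.span_singleton_le_iff_mem, RingHom.mem_ker, map_sub, map_mul, hα0C, hα0X, hα0Y,
        mul_left_comm, hX', mul_one, sub_self]
    exact h1 hf)
  have hαx : α x = ι (MvPolynomial.X 0) := hα0X
  have hux : IsUnit (α x) := by
    rw [hαx]; exact IsUnit.of_mul_eq_one _ hX'
  let α' : L →+* T := IsLocalization.Away.lift x hux
  have hα' : ∀ z, α' (κ z) = α z := fun z => IsLocalization.Away.lift_eq x hux z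
  let β : MvPolynomial (Fin 1) Λ →+* L :=
    MvPolynomial.eval₂Hom (κ.comp ((Ideal.Quotient.mk _).comp MvPolynomial.C)) (fun _ => κ x)
  have hβC : ∀ a, β (MvPolynomial.C a) = κ (Ideal.Quotient.mk _ (MvPolynomial.C a)) := fun a => by
    simp [β]
  have hβX : β (MvPolynomial.X 0) = κ x := by simp [β]
  have huX : IsUnit (β (MvPolynomial.X 0)) := by
    rw [hβX]; exact IsLocalization.Away.algebraMap_isUnit (S := L) x
  let β' : T →+* L := IsLocalization.Away.lift (MvPolynomial.X 0 : MvPolynomial (Fin 1) Λ) huX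
  have hβ' : ∀ z, β' (ι z) = β z := fun z => IsLocalization.Away.lift_eq _ huX z
  have hxy : κ x * κ y = κ (Ideal.Quotient.mk _ (MvPolynomial.C u)) := by
    rw [← map_mul]
    congr 1
    change Ideal.Quotient.mk _ (MvPolynomial.X 0 * MvPolynomial.X 1) = _
    rw [Ideal.Quotient.eq]
    exact Ideal.subset_span rfl
  have h1 : α'.comp β' = RingHom.id T := by
    refine IsLocalization.ringHom_ext (Submonoid.powers (MvPolynomial.X 0 : MvPolynomial (Fin 1) Λ)) ?_
    refine MvPolynomial.ringHom_ext (fun a => ?_) (fun i => ?_)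
    · change α' (β' (ι (MvPolynomial.C a))) = ι (MvPolynomial.C a)
      rw [hβ', hβC, hα']
      exact hα0C a
    · have hi : i = 0 := Subsingleton.elim _ _
      subst hi
      change α' (β' (ι (MvPolynomial.X 0))) = ι (MvPolynomial.X 0)
      rw [hβ', hβX, hα', hαx]
  have h2 : β'.comp α' = RingHom.id L := by
    refine IsLocalization.ringHom_ext (Submonoid.powers x) ?_
    refine Ideal.Quotient.ringHom_ext (MvPolynomial.ringHom_ext (fun a => ?_) (fun i => ?_))
    · change β' (α' (κ (Ideal.Quotient.mk _ (MvPolynomial.C a)))) = κ (Ideal.Quotient.mk _ (MvPolynomial.C a))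
      rw [hα', ← hβC, ← hβ']
      congr 1
      exact hα0C a
    · fin_cases i
      · change β' (α' (κ x)) = κ x
        rw [hα', hαx, hβ', hβX]
      · change β' (α' (κ y)) = κ y
        have h3 : α y = ι (MvPolynomial.C u) * X' := hα0Y
        rw [hα', h3, map_mul, hβ', hβC, ← hxy, mul_right_comm]
        have h4 : κ x * β' X' = 1 := by
          rw [← hβX, ← hβ', ← map_mul, hX', map_one]
        rw [h4, one_mul]
  refine ⟨RingEquiv.ofRingHom α' β' h1 h2, fun a => ?_⟩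
  change α' (κ (Ideal.Quotient.mk _ (MvPolynomial.C a))) = ι (MvPolynomial.C a)
  rw [hα']
  exact hα0C a

/-- the structure morphism of `Spec Λ[x, y]/(xy - u)` -/
noncomputable abbrev str : Spec (CommRingCat.of (NA Λ u)) ⟶ Spec (CommRingCat.of Λ) :=
  Spec.map (CommRingCat.ofHom ((Ideal.Quotient.mk _).comp MvPolynomial.C : Λ →+* NA Λ u))

instance : LocallyOfFiniteType (str u) := by
  have h : ((Ideal.Quotient.mk _).comp MvPolynomial.C : Λ →+* NA Λ u).FiniteType := by
    refine RingHom.FiniteType.comp (RingHom.FiniteType.of_surjective _ Ideal.Quotient.mk_surjective) ?_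
    exact (RingHom.finiteType_algebraMap (A := Λ) (B := MvPolynomial (Fin 2) Λ)).mpr inferInstance
  rw [HasRingHomProperty.Spec_iff (P := @LocallyOfFiniteType)]
  exact h

instance : SmoothOfRelativeDimension 1 (Spec.map (CommRingCat.ofHom
    (MvPolynomial.C : Λ →+* MvPolynomial (Fin 1) Λ))) :=
  Groth.Agent.FlatB.AffSpaceSmooth.smoothOfRelativeDimension_SpecMap Λ 1

theorem exists_smooth_nbhd (z : Spec (CommRingCat.of (NA Λ u))) (hz : u ∉ (str u z).asIdeal) :
    ∃ W : (Spec (CommRingCat.of (NA Λ u))).Opens, z ∈ W ∧ SmoothOfRelativeDimension 1 (W.ι ≫ str u) := by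
  let x : NA Λ u := Ideal.Quotient.mk _ (MvPolynomial.X 0)
  have hx : x ∉ z.asIdeal := by
    intro h
    apply hz
    change (Ideal.Quotient.mk _ (MvPolynomial.C u) : NA Λ u) ∈ z.asIdeal
    have h1 : (Ideal.Quotient.mk _ (MvPolynomial.C u) : NA Λ u) =
        x * Ideal.Quotient.mk _ (MvPolynomial.X 1) := by
      change _ = (Ideal.Quotient.mk _ (MvPolynomial.X 0 * MvPolynomial.X 1) : NA Λ u)
      rw [← sub_eq_zero, ← neg_eq_zero, neg_sub, ← map_sub, Ideal.Quotient.eq_zero_iff_mem]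
      exact Ideal.subset_span rfl
    rw [h1]
    exact Ideal.mul_mem_right _ _ h
  obtain ⟨e, he⟩ := exists_awayEquiv u
  let j : Spec (CommRingCat.of (Localization.Away x)) ⟶ Spec (CommRingCat.of (NA Λ u)) :=
    Spec.map (CommRingCat.ofHom (algebraMap (NA Λ u) (Localization.Away x)))
  haveI : IsOpenImmersion j := inferInstance
  have hzr : z ∈ Set.range j := by
    have h1 := PrimeSpectrum.localization_away_comap_range (Localization.Away x) x
    have h2 : z ∈ (PrimeSpectrum.basicOpen x : Set (PrimeSpectrum (NA Λ u))) := hx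
    rw [← h1] at h2
    exact h2
  have hj : SmoothOfRelativeDimension 1 (j ≫ str u) := by
    let t : Spec (CommRingCat.of (Localization.Away (MvPolynomial.X 0 : MvPolynomial (Fin 1) Λ))) ⟶
        Spec (CommRingCat.of (MvPolynomial (Fin 1) Λ)) := Spec.map (CommRingCat.ofHom (algebraMap _ _))
    haveI : IsOpenImmersion t := inferInstance
    let s : Spec (CommRingCat.of (MvPolynomial (Fin 1) Λ)) ⟶ Spec (CommRingCat.of Λ) :=
      Spec.map (CommRingCat.ofHom MvPolynomial.C)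
    let c : Spec (CommRingCat.of (Localization.Away x)) ≅
        Spec (CommRingCat.of (Localization.Away (MvPolynomial.X 0 : MvPolynomial (Fin 1) Λ))) :=
      Scheme.Spec.mapIso (RingEquiv.toCommRingCatIso e).symm.op
    have h1 : j ≫ str u = c.hom ≫ t ≫ s := by
      change Spec.map _ ≫ Spec.map _ = Spec.map _ ≫ Spec.map _ ≫ Spec.map _
      rw [← Spec.map_comp, ← Spec.map_comp, ← Spec.map_comp]
      congr 1
      ext a
      exact (e.symm_apply_eq.mpr (he a).symm).symm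
    rw [h1]
    have h2 : SmoothOfRelativeDimension (0 + (0 + 1)) (c.hom ≫ t ≫ s) := inferInstance
    simpa using h2
  refine ⟨j.opensRange, hzr, ?_⟩
  have h2 : j.opensRange.ι ≫ str u = j.isoOpensRange.inv ≫ j ≫ str u := by
    rw [← Category.assoc, Scheme.Hom.isoOpensRange_inv_comp]
  rw [h2]
  have h3 : SmoothOfRelativeDimension (0 + 1) (j.isoOpensRange.inv ≫ j ≫ str u) := inferInstance
  simpa using h3

end Ring

section Etale

variable {U X S : Scheme.{u}}

/-- Smoothness and the relative dimension descend along étale morphisms. -/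
theorem exists_nbhd_of_etale (n : ℕ) (e : U ⟶ X) [Etale e] (f : X ⟶ S) (w : U) (W : U.Opens)
    (hw : w ∈ W) (h : SmoothOfRelativeDimension n (W.ι ≫ e ≫ f)) :
    ∃ V : X.Opens, e w ∈ V ∧ SmoothOfRelativeDimension n (V.ι ≫ f) := by
  let e' : W.toScheme ⟶ X := W.ι ≫ e
  haveI : Etale e' := inferInstance
  let V0 : X.Opens := ⟨Set.range e', e'.isOpenMap.isOpen_range⟩
  let r : (e' ⁻¹ᵁ V0).toScheme ⟶ V0.toScheme := e' ∣_ V0
  have hr : r ≫ V0.ι = (e' ⁻¹ᵁ V0).ι ≫ e' := morphismRestrict_ι _ _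
  haveI : Etale r := inferInstanceAs (Etale (e' ∣_ V0))
  haveI : Surjective r := by
    refine ⟨fun v => ?_⟩
    obtain ⟨z, hz⟩ : v.1 ∈ Set.range e' := v.2
    have hz' : z ∈ e' ⁻¹ᵁ V0 := ⟨z, rfl⟩
    refine ⟨⟨z, hz'⟩, ?_⟩
    apply Subtype.ext
    have h1 : V0.ι (r ⟨z, hz'⟩) = e' ((e' ⁻¹ᵁ V0).ι ⟨z, hz'⟩) := by
      rw [← Scheme.Hom.comp_apply, hr, Scheme.Hom.comp_apply]
    exact h1.trans hz
  have hcomp : r ≫ V0.ι ≫ f = (e' ⁻¹ᵁ V0).ι ≫ W.ι ≫ e ≫ f := by
    rw [← Category.assoc, hr, Category.assoc, Category.assoc]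
  have hreln : SmoothOfRelativeDimension n (r ≫ V0.ι ≫ f) := by
    rw [hcomp]
    have : SmoothOfRelativeDimension (0 + n) ((e' ⁻¹ᵁ V0).ι ≫ W.ι ≫ e ≫ f) := inferInstance
    simpa using this
  haveI : Smooth (r ≫ V0.ι ≫ f) := SmoothOfRelativeDimension.smooth n _
  haveI : Smooth (V0.ι ≫ f) := Groth.Agent.S0115.result r (V0.ι ≫ f)
  let w0 : W.toScheme := ⟨w, hw⟩
  have hw0 : e' w0 = e w := rfl
  let v0 : V0.toScheme := ⟨e w, ⟨w0, hw0⟩⟩
  obtain ⟨m, hm⟩ := Groth.Agent.Dual.H328.RelDimDec.exists_mem_locus (V0.ι ≫ f) v0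
  obtain ⟨V1, hv1, hV1⟩ := (Groth.Agent.Dual.H328.RelDimDec.mem_locus_iff (V0.ι ≫ f)).mp hm
  -- compare the relative dimensions
  let r1 : (r ⁻¹ᵁ V1).toScheme ⟶ V1.toScheme := r ∣_ V1
  have hr1 : r1 ≫ V1.ι = (r ⁻¹ᵁ V1).ι ≫ r := morphismRestrict_ι _ _
  haveI : Etale r1 := inferInstanceAs (Etale (r ∣_ V1))
  have hA : SmoothOfRelativeDimension m (r1 ≫ V1.ι ≫ V0.ι ≫ f) := by
    have : SmoothOfRelativeDimension (0 + m) (r1 ≫ V1.ι ≫ V0.ι ≫ f) := inferInstance
    simpa using this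
  have hB : SmoothOfRelativeDimension n (r1 ≫ V1.ι ≫ V0.ι ≫ f) := by
    rw [← Category.assoc r1, hr1, Category.assoc]
    have : SmoothOfRelativeDimension (0 + n) ((r ⁻¹ᵁ V1).ι ≫ r ≫ V0.ι ≫ f) := inferInstance
    simpa using this
  have hz0 : w0 ∈ e' ⁻¹ᵁ V0 := ⟨w0, rfl⟩
  have hz1 : (⟨w0, hz0⟩ : (e' ⁻¹ᵁ V0).toScheme) ∈ r ⁻¹ᵁ V1 := by
    have h1 : r ⟨w0, hz0⟩ = v0 := by
      apply Subtype.ext
      have h1 : V0.ι (r ⟨w0, hz0⟩) = e' ((e' ⁻¹ᵁ V0).ι ⟨w0, hz0⟩) := by
        rw [← Scheme.Hom.comp_apply, hr, Scheme.Hom.comp_apply]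
      exact h1
    change r ⟨w0, hz0⟩ ∈ V1
    rw [h1]; exact hv1
  have hmn : m = n := Groth.Agent.Ega2.GeoRelDim.relDim_unique (r1 ≫ V1.ι ≫ V0.ι ≫ f) m n hA hB ⟨_, hz1⟩
  subst hmn
  let j : V1.toScheme ⟶ X := V1.ι ≫ V0.ι
  refine ⟨j.opensRange, ⟨⟨v0, hv1⟩, rfl⟩, ?_⟩
  have h2 : j.opensRange.ι ≫ f = j.isoOpensRange.inv ≫ V1.ι ≫ V0.ι ≫ f := by
    have h3 : j.isoOpensRange.inv ≫ V1.ι ≫ V0.ι = j.opensRange.ι := Scheme.Hom.isoOpensRange_inv_comp j
    rw [← h3, Category.assoc, Category.assoc]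
  rw [h2]
  have h3 : SmoothOfRelativeDimension (0 + m) (j.isoOpensRange.inv ≫ V1.ι ≫ V0.ι ≫ f) := inferInstance
  simpa using h3

end Etale

end K67.NodeSmooth
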