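import Mathlib.FieldTheory.Finite.Basic
import Mathlib.FieldTheory.IsAlgClosed.Basic
import Mathlib.FieldTheory.Separable
import Mathlib.LinearAlgebra.FiniteDimensional.Basic
import Mathlib.LinearAlgebra.Quotient.Basic

/-!
# `p`-linear endomorphisms of finite-dimensional vector spaces over an algebraically closed field

`F : V →+ V` with `F (a • v) = a ^ p • F v`.
* `exists_fixed`: if `F` is not nilpotent at `w`, there is a nonzero fixed vector.
* `sup_eq_top`: `V` is the sum of the span of the fixed vectors and of the nil part.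
* `linearIndependent_of_fixed`: fixed vectors independent over `ZMod p` are independent over `k`.
* `isCompl`: the decomposition.
-/

set_option autoImplicit false

namespace K67.PLinear

open Polynomial

variable (p : ℕ) [hp : Fact p.Prime] {k : Type*} [Field k] [CharP k p]

include hp in
theorem exists_int_of_pow_eq (a : k) (ha : a ^ p = a) : ∃ c : ℤ, (c : k) = a := by
  classical
  by_contra hne
  push Not at hne
  let P : Polynomial k := Polynomial.X ^ p - Polynomial.X
  have hp1 : 1 < p := (Fact.out : p.Prime).one_lt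
  have hP0 : P ≠ 0 := FiniteField.X_pow_card_sub_X_ne_zero k hp1
  have hdeg : P.natDegree = p := FiniteField.X_pow_card_sub_X_natDegree_eq k hp1
  let S : Finset k := insert a (Finset.univ.image (ZMod.castHom (dvd_refl p) k))
  have hinj : Function.Injective (ZMod.castHom (dvd_refl p) k) := RingHom.injective _
  have hScard : S.card = p + 1 := by
    rw [Finset.card_insert_of_notMem, Finset.card_image_of_injective _ hinj, Finset.card_univ,
      ZMod.card]
    simp only [Finset.mem_image, Finset.mem_univ, true_and, not_exists]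
    intro c hc
    refine hne (ZMod.cast c : ℤ) ?_
    rw [← hc, ZMod.castHom_apply]
    exact ZMod.intCast_cast c
  have hroots : ∀ x ∈ S, P.IsRoot x := by
    intro x hx
    simp only [S, Finset.mem_insert, Finset.mem_image, Finset.mem_univ, true_and] at hx
    rcases hx with rfl | ⟨c, rfl⟩
    · simp [P, ha]
    · have h := congrArg (ZMod.castHom (dvd_refl p) k) (ZMod.pow_card c)
      rw [map_pow] at h
      simp only [P, Polynomial.IsRoot.def, Polynomial.eval_sub, Polynomial.eval_pow, Polynomial.eval_X]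
      rw [h, sub_self]
  have hle : S.card ≤ P.natDegree := by
    have hsub : S.val ≤ P.roots := by
      rw [Multiset.le_iff_subset S.nodup]
      intro x hx
      exact (Polynomial.mem_roots hP0).2 (hroots x hx)
    exact (Multiset.card_le_card hsub).trans (Polynomial.card_roots' P)
  omega

/-- the additive polynomials occurring in the search for a fixed vector -/
noncomputable def Xp (a : ℕ → k) : ℕ → k[X]
  | 0 => C (a 0) * X ^ p
  | n + 1 => (Xp a n) ^ p + C (a (n + 1)) * X ^ p

include hp in
theorem derivative_Xp (a : ℕ → k) (n : ℕ) : derivative (Xp p a n) = 0 := by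
  have hX : ∀ c : k, derivative (C c * (X : k[X]) ^ p) = 0 := by
    intro c
    rw [derivative_C_mul, derivative_X_pow]
    have : ((p : ℕ) : k) = 0 := CharP.cast_eq_zero k p
    rw [this, C_0, zero_mul, mul_zero]
  induction n with
  | zero => exact hX _
  | succ n ih => rw [Xp, derivative_add, derivative_pow, ih, mul_zero, zero_add, hX]

omit [CharP k p] in
include hp in
theorem natDegree_Xp (a : ℕ → k) (n : ℕ) :
    (Xp p a n = 0 ∧ ∀ j ≤ n, a j = 0) ∨ (Xp p a n ≠ 0 ∧ p ≤ (Xp p a n).natDegree) := by
  have hp2 : 2 ≤ p := hp.out.two_le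
  have hC : ∀ c : k, c ≠ 0 → C c * (X : k[X]) ^ p ≠ 0 ∧ p ≤ (C c * (X : k[X]) ^ p).natDegree := by
    intro c hc
    rw [natDegree_C_mul_X_pow p c hc]
    exact ⟨mul_ne_zero (C_ne_zero.mpr hc) (pow_ne_zero _ X_ne_zero), le_rfl⟩
  induction n with
  | zero =>
    by_cases h : a 0 = 0
    · left
      refine ⟨by rw [Xp, h, C_0, zero_mul], fun j hj => ?_⟩
      rw [Nat.le_zero.mp hj, h]
    · right; exact hC _ h
  | succ n ih =>
    rcases ih with ⟨h0, hj⟩ | ⟨h0, hd⟩
    · by_cases h : a (n + 1) = 0
      · left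
        refine ⟨by rw [Xp, h, C_0, zero_mul, h0, zero_pow hp.out.ne_zero, add_zero], ?_⟩
        intro j hj'
        rcases Nat.le_succ_iff.mp hj' with h1 | h1
        · exact hj j h1
        · rw [h1, h]
      · right
        rw [Xp, h0, zero_pow hp.out.ne_zero, zero_add]
        exact hC _ h
    · right
      have h1 : (C (a (n + 1)) * (X : k[X]) ^ p).natDegree ≤ p := natDegree_C_mul_X_pow_le _ _
      have h2 : p < ((Xp p a n) ^ p).natDegree := by
        rw [natDegree_pow]
        nlinarith
      have h3 : (Xp p a (n + 1)).natDegree = ((Xp p a n) ^ p).natDegree := by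
        rw [Xp]
        exact natDegree_add_eq_left_of_natDegree_lt (h1.trans_lt h2)
      rw [h3]
      refine ⟨fun h => ?_, h2.le⟩
      rw [h, natDegree_zero] at h3
      omega

include hp in
theorem exists_root [IsAlgClosed k] (a : ℕ → k) (n : ℕ) (ha : ∃ j ≤ n, a j ≠ 0) :
    ∃ t : k, t ≠ 0 ∧ (Xp p a n).eval t = t := by
  classical
  have hp2 : 2 ≤ p := hp.out.two_le
  rcases natDegree_Xp p a n with h | ⟨_, hd⟩
  · obtain ⟨j, hj, hne⟩ := ha
    exact absurd (h.2 j hj) hne
  set Q : k[X] := Xp p a n - X with hQ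
  have hQd : 2 ≤ Q.natDegree := by
    rw [hQ, natDegree_sub_eq_left_of_natDegree_lt]
    · omega
    · rw [natDegree_X]; omega
  have hQ' : derivative Q = -1 := by
    rw [hQ, derivative_sub, derivative_Xp, derivative_X, zero_sub]
  have hsep : Q.Separable := by
    rw [Polynomial.Separable, hQ']
    exact ⟨0, -1, by ring⟩
  have hsp : Q.Splits := IsAlgClosed.splits _
  have hcard := hsp.natDegree_eq_card_roots
  have hnd : Q.roots.Nodup := nodup_roots hsep
  have h2 : 1 < Q.roots.toFinset.card := by
    rw [Multiset.toFinset_card_of_nodup hnd, ← hcard]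
    omega
  obtain ⟨t, ht, hne⟩ := Finset.exists_mem_ne h2 0
  refine ⟨t, hne, ?_⟩
  rw [Multiset.mem_toFinset] at ht
  have := (mem_roots'.mp ht).2
  rw [hQ, IsRoot.def, eval_sub, eval_X, sub_eq_zero] at this
  exact this

variable {V : Type*} [AddCommGroup V] [Module k V] (F : V →+ V)
  (hF : ∀ (a : k) (v : V), F (a • v) = a ^ p • F v)

include hp hF in
/-- A nonzero fixed vector. -/
theorem exists_fixed [IsAlgClosed k] [FiniteDimensional k V] (w : V)
    (hw : ∀ m : ℕ, (⇑F)^[m] w ≠ 0) : ∃ x : V, x ≠ 0 ∧ F x = x := by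
  classical
  let e : ℕ → V := fun i => (⇑F)^[i] w
  have he : ∀ i, F (e i) = e (i + 1) := fun i => (Function.iterate_succ_apply' (⇑F) i w).symm
  -- the first dependence
  have hex : ∃ r : ℕ, ¬ LinearIndependent k (fun i : Fin r => e i) := by
    refine ⟨Module.finrank k V + 1, fun h => ?_⟩
    have := h.fintype_card_le_finrank
    rw [Fintype.card_fin] at this
    omega
  obtain ⟨r, hr1, hr2⟩ : ∃ r : ℕ, LinearIndependent k (fun i : Fin r => e i) ∧
      ¬ LinearIndependent k (fun i : Fin (r + 1) => e i) := by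
    have h0 : Nat.find hex ≠ 0 := by
      intro h
      have := Nat.find_spec hex
      rw [h] at this
      exact this linearIndependent_empty_type
    obtain ⟨r, hr⟩ := Nat.exists_eq_succ_of_ne_zero h0
    refine ⟨r, ?_, ?_⟩
    · by_contra hcon
      exact Nat.find_min hex (m := r) (by omega) hcon
    · have := Nat.find_spec hex
      rwa [hr] at this
  have hmem : e r ∈ Submodule.span k (Set.range (fun i : Fin r => e i)) := by
    by_contra hcon
    apply hr2
    rw [linearIndependent_fin_succ']
    exact ⟨hr1, hcon⟩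
  obtain ⟨a', ha'⟩ := (Submodule.mem_span_range_iff_exists_fun k).mp hmem
  -- extend the coefficients by zero
  let a : ℕ → k := fun i => if h : i < r then a' ⟨i, h⟩ else 0
  have ha : ∑ i ∈ Finset.range r, a i • e i = e r := by
    rw [Finset.sum_range, ← ha']
    refine Finset.sum_congr rfl fun i _ => ?_
    simp [a]
  have hr0 : r ≠ 0 := by
    rintro rfl
    rw [Finset.sum_range_zero] at ha
    exact hw 0 ha.symm
  obtain ⟨n, rfl⟩ := Nat.exists_eq_succ_of_ne_zero hr0
  have hane : ∃ j ≤ n, a j ≠ 0 := by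
    by_contra hcon
    push Not at hcon
    refine hw (n + 1) ?_
    change e (n + 1) = 0
    rw [← ha]
    refine Finset.sum_eq_zero fun i hi => ?_
    rw [hcon i (Nat.le_of_lt_succ (Finset.mem_range.mp hi)), zero_smul]
  obtain ⟨t, ht0, ht⟩ := exists_root p a n hane
  let x : ℕ → k := fun i => (Xp p a i).eval t
  have hx0 : x 0 = a 0 * t ^ p := by simp [x, Xp]
  have hxs : ∀ i, x (i + 1) = (x i) ^ p + a (i + 1) * t ^ p := by
    intro i; simp [x, Xp]
  have hxn : x n = t := ht
  refine ⟨∑ i ∈ Finset.range (n + 1), x i • e i, ?_, ?_⟩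
  · intro h0
    rw [Finset.sum_range (fun i => x i • e i)] at h0
    have := Fintype.linearIndependent_iff.mp hr1 (fun i => x i) h0 (Fin.last n)
    exact ht0 (hxn ▸ this)
  · rw [map_sum]
    simp_rw [hF, he]
    have h1 : ∑ i ∈ Finset.range (n + 1), x i ^ p • e (i + 1) =
        ∑ i ∈ Finset.range n, x i ^ p • e (i + 1) + t ^ p • e (n + 1) := by
      rw [Finset.sum_range_succ, hxn]
    have h2 : ∑ i ∈ Finset.range (n + 1), x i • e i =
        ∑ i ∈ Finset.range n, x (i + 1) • e (i + 1) + x 0 • e 0 := by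
      rw [Finset.sum_range_succ']
    have h3 : e (n + 1) = ∑ i ∈ Finset.range n, a (i + 1) • e (i + 1) + a 0 • e 0 := by
      rw [← ha, Finset.sum_range_succ']
    rw [h1, h2, h3]
    rw [smul_add, ← add_assoc, Finset.smul_sum, ← Finset.sum_add_distrib, smul_smul, hx0,
      mul_comm (t ^ p) (a 0)]
    congr 1
    refine Finset.sum_congr rfl fun i _ => ?_
    rw [hxs, add_smul, smul_smul, mul_comm (t ^ p)]

include hF in
omit hp [CharP k p] in
theorem iterate_smul (m : ℕ) (a : k) (v : V) :
    (⇑F)^[m] (a • v) = a ^ (p ^ m) • (⇑F)^[m] v := by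
  induction m generalizing a v with
  | zero => simp
  | succ m ih => rw [Function.iterate_succ_apply, hF, ih, Function.iterate_succ_apply, ← pow_mul,
      pow_succ']

omit hp [CharP k p] [Field k] [Module k V] in
theorem iterate_add' (m : ℕ) (v w : V) : (⇑F)^[m] (v + w) = (⇑F)^[m] v + (⇑F)^[m] w :=
  iterate_map_add F m v w

/-- the nil part -/
def nilPart : Submodule k V where
  carrier := {v | ∃ m : ℕ, (⇑F)^[m] v = 0}
  zero_mem' := ⟨0, rfl⟩
  add_mem' := by
    rintro v w ⟨m, hm⟩ ⟨n, hn⟩
    refine ⟨n + m, ?_⟩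
    rw [iterate_map_add, Function.iterate_add_apply, hm, iterate_map_zero, zero_add, add_comm,
      Function.iterate_add_apply, hn, iterate_map_zero]
  smul_mem' := by
    rintro a v ⟨m, hm⟩
    refine ⟨m, ?_⟩
    rw [iterate_smul p F hF, hm, smul_zero]

omit hp [CharP k p] in
theorem span_nil : Submodule.span k {v : V | ∃ m : ℕ, (⇑F)^[m] v = 0} = nilPart p F hF :=
  (nilPart p F hF).span_eq

/-- the fixed part -/
def fixPart : Submodule k V := Submodule.span k {v : V | F v = v}

include hF in
omit hp [CharP k p] in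
theorem map_fixPart {v : V} (hv : v ∈ fixPart (k := k) F) : F v ∈ fixPart (k := k) F := by
  refine Submodule.span_induction ?_ ?_ ?_ ?_ hv
  · intro x hx
    have hx' : F x = x := hx
    rw [hx']; exact Submodule.subset_span hx
  · rw [map_zero]; exact zero_mem _
  · intro x y _ _ hx hy; rw [map_add]; exact add_mem hx hy
  · intro a x _ hx; rw [hF]; exact Submodule.smul_mem _ _ hx

include hF in
omit hp [CharP k p] in
theorem iterate_fixPart (m : ℕ) {v : V} (hv : v ∈ fixPart (k := k) F) :
    (⇑F)^[m] v ∈ fixPart (k := k) F := by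
  induction m with
  | zero => exact hv
  | succ m ih => rw [Function.iterate_succ_apply']; exact map_fixPart p F hF ih

include hp hF in
omit [CharP k p] in
/-- `F ^ m` is onto the fixed part -/
theorem exists_iterate_eq [IsAlgClosed k] (m : ℕ) {v : V} (hv : v ∈ fixPart (k := k) F) :
    ∃ y ∈ fixPart (k := k) F, (⇑F)^[m] y = v := by
  refine Submodule.span_induction ?_ ?_ ?_ ?_ hv
  · intro x hx
    exact ⟨x, Submodule.subset_span hx, Function.iterate_fixed hx m⟩
  · exact ⟨0, zero_mem _, iterate_map_zero F m⟩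
  · rintro x y _ _ ⟨x', hx', rfl⟩ ⟨y', hy', rfl⟩
    exact ⟨x' + y', add_mem hx' hy', iterate_map_add F m _ _⟩
  · rintro a x _ ⟨x', hx', rfl⟩
    obtain ⟨b, hb⟩ := IsAlgClosed.exists_pow_nat_eq a (pow_pos hp.out.pos m)
    exact ⟨b • x', Submodule.smul_mem _ _ hx', by rw [iterate_smul p F hF, hb]⟩

include hp hF in
omit [CharP k p] in
/-- `F - 1` is onto the fixed part -/
theorem exists_sub_eq_fix [IsAlgClosed k] {v : V} (hv : v ∈ fixPart (k := k) F) :
    ∃ y ∈ fixPart (k := k) F, F y - y = v := by
  suffices H : ∀ c : k, ∃ y ∈ fixPart (k := k) F, F y - y = c • v by simpa using H 1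
  refine Submodule.span_induction ?_ ?_ ?_ ?_ hv
  · intro x hx c
    have hx' : F x = x := hx
    obtain ⟨t, ht⟩ : ∃ t : k, t ^ p - t = c := by
      have hdeg : (X ^ p - X - C c : k[X]).degree ≠ 0 := by
        have hp1 : 1 < p := hp.out.one_lt
        have h1 : (X ^ p - X - C c : k[X]).natDegree = p := by
          rw [natDegree_sub_C, natDegree_sub_eq_left_of_natDegree_lt]
          · exact natDegree_X_pow p
          · rw [natDegree_X_pow, natDegree_X]; exact hp1
        intro h
        have h2 := Polynomial.natDegree_eq_zero_iff_degree_le_zero.mpr h.le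
        omega
      obtain ⟨t, ht⟩ := IsAlgClosed.exists_root _ hdeg
      refine ⟨t, ?_⟩
      rw [IsRoot.def, eval_sub, eval_sub, eval_pow, eval_X, eval_C, sub_eq_zero] at ht
      exact ht
    refine ⟨t • x, Submodule.smul_mem _ _ (Submodule.subset_span hx), ?_⟩
    rw [hF, hx', ← sub_smul, ht]
  · intro c; exact ⟨0, zero_mem _, by simp⟩
  · intro x y _ _ hx hy c
    obtain ⟨x', hx', h1⟩ := hx c
    obtain ⟨y', hy', h2⟩ := hy c
    refine ⟨x' + y', add_mem hx' hy', ?_⟩
    rw [map_add, smul_add, ← h1, ← h2]; abel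
  · intro a x _ hx c
    obtain ⟨y, hy, h⟩ := hx (c * a)
    exact ⟨y, hy, by rw [h, mul_smul]⟩

omit hp [CharP k p] [Field k] [Module k V] in
/-- `F - 1` is onto the nil part -/
theorem exists_sub_eq_nil {v : V} (m : ℕ) (hv : (⇑F)^[m] v = 0) :
    ∃ y : V, (⇑F)^[m] y = 0 ∧ F y - y = v := by
  refine ⟨-∑ i ∈ Finset.range m, (⇑F)^[i] v, ?_, ?_⟩
  · rw [iterate_map_neg, neg_eq_zero]
    have : ∀ s : Finset ℕ, (⇑F)^[m] (∑ i ∈ s, (⇑F)^[i] v) = ∑ i ∈ s, (⇑F)^[m] ((⇑F)^[i] v) := by
      intro s
      classical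
      induction s using Finset.induction_on with
      | empty => simp [iterate_map_zero]
      | insert a s ha ih => rw [Finset.sum_insert ha, iterate_map_add, ih, Finset.sum_insert ha]
    rw [this]
    refine Finset.sum_eq_zero fun i _ => ?_
    rw [← Function.iterate_add_apply, add_comm, Function.iterate_add_apply, hv, iterate_map_zero]
  · rw [map_neg, map_sum]
    have h1 : ∑ i ∈ Finset.range m, F ((⇑F)^[i] v) = ∑ i ∈ Finset.range m, (⇑F)^[i + 1] v :=
      Finset.sum_congr rfl fun i _ => (Function.iterate_succ_apply' (⇑F) i v).symm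
    have h2 := Finset.sum_range_succ (fun i => (⇑F)^[i] v) m
    have h3 := Finset.sum_range_succ' (fun i => (⇑F)^[i] v) m
    rw [h1]
    rw [h2] at h3
    simp only [Function.iterate_zero, id] at h3
    rw [hv, add_zero] at h3
    rw [h3]
    abel

include hp hF in
theorem sup_eq_top [IsAlgClosed k] [FiniteDimensional k V] :
    fixPart (k := k) F ⊔ nilPart p F hF = ⊤ := by
  classical
  set W := fixPart (k := k) F ⊔ nilPart p F hF with hW
  by_contra hne
  have hFW : ∀ v ∈ W, F v ∈ W := by
    intro v hv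
    obtain ⟨x, hx, y, ⟨m, hm⟩, rfl⟩ := Submodule.mem_sup.mp hv
    rw [map_add]
    refine Submodule.add_mem_sup (map_fixPart p F hF hx) ⟨m, ?_⟩
    rw [← Function.iterate_succ_apply, Function.iterate_succ_apply', hm, map_zero]
  -- induced map on the quotient
  let Fq : (V ⧸ W) →+ (V ⧸ W) := QuotientAddGroup.map W.toAddSubgroup W.toAddSubgroup F hFW
  have hFq : ∀ v : V, Fq (Submodule.Quotient.mk v) = Submodule.Quotient.mk (F v) := fun v => rfl
  have hFq' : ∀ (a : k) (v : V ⧸ W), Fq (a • v) = a ^ p • Fq v := by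
    intro a v
    obtain ⟨v, rfl⟩ := Submodule.Quotient.mk_surjective W v
    rw [← Submodule.Quotient.mk_smul, hFq, hF, hFq, Submodule.Quotient.mk_smul]
  have hit : ∀ (m : ℕ) (v : V), (⇑Fq)^[m] (Submodule.Quotient.mk v) =
      Submodule.Quotient.mk ((⇑F)^[m] v) := by
    intro m v
    induction m with
    | zero => rfl
    | succ m ih => rw [Function.iterate_succ_apply', ih, hFq, Function.iterate_succ_apply']
  have hexn : ∃ v : V, v ∉ W := by
    by_contra hcon
    push Not at hcon
    exact hne (eq_top_iff.mpr fun v _ => hcon v)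
  obtain ⟨w, hw⟩ := hexn
  have hnil : ∀ m : ℕ, (⇑Fq)^[m] (Submodule.Quotient.mk w) ≠ 0 := by
    intro m h
    rw [hit, Submodule.Quotient.mk_eq_zero] at h
    obtain ⟨x, hx, y, ⟨n, hn⟩, hxy⟩ := Submodule.mem_sup.mp h
    have h1 : (⇑F)^[n + m] w = (⇑F)^[n] x := by
      rw [Function.iterate_add_apply, ← hxy, iterate_map_add, hn, add_zero]
    obtain ⟨z, hz, hz'⟩ := exists_iterate_eq p F hF (n + m) (iterate_fixPart p F hF n hx)
    have h2 : w - z ∈ nilPart p F hF := ⟨n + m, by rw [iterate_map_sub, h1, hz', sub_self]⟩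
    apply hw
    have h3 : w = z + (w - z) := by abel
    rw [h3]
    exact Submodule.add_mem_sup hz h2
  obtain ⟨x', hx0, hx⟩ := exists_fixed p Fq hFq' _ hnil
  obtain ⟨x, rfl⟩ := Submodule.Quotient.mk_surjective W x'
  rw [hFq, Submodule.Quotient.eq] at hx
  obtain ⟨a, ha, b, ⟨m, hm⟩, hab⟩ := Submodule.mem_sup.mp hx
  obtain ⟨y, hy, hy'⟩ := exists_sub_eq_fix p F hF ha
  obtain ⟨z, hz, hz'⟩ := exists_sub_eq_nil F m hm
  have hfix : F (x - (y + z)) = x - (y + z) := by
    have h1 : F x - x = (F y - y) + (F z - z) := by rw [hy', hz', hab]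
    rw [map_sub, map_add]
    have h2 : F x = x + ((F y - y) + (F z - z)) := by rw [← h1]; abel
    rw [h2]; abel
  apply hx0
  rw [Submodule.Quotient.mk_eq_zero]
  have h3 : x = ((x - (y + z)) + y) + z := by abel
  rw [h3]
  exact Submodule.add_mem_sup (add_mem (Submodule.subset_span hfix) hy) ⟨m, hz⟩

include hp hF in
/-- fixed vectors which are linearly independent over the integers modulo `p` -/
theorem linearIndependent_of_fixed {ι : Type*} [Fintype ι] (v : ι → V) (hv : ∀ i, F (v i) = v i)
    (h : ∀ c : ι → ℤ, (∑ i, c i • v i) = 0 → ∀ i, (p : ℤ) ∣ c i) : LinearIndependent k v := by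
  classical
  rw [Fintype.linearIndependent_iff]
  suffices H : ∀ (n : ℕ) (g : ι → k), (Finset.univ.filter (fun i => g i ≠ 0)).card = n →
      ∑ i, g i • v i = 0 → ∀ i, g i = 0 from fun g hg => H _ g rfl hg
  intro n
  induction n using Nat.strong_induction_on with
  | _ n ih =>
    intro g hn hg
    by_contra hcon
    push Not at hcon
    obtain ⟨i0, hi0⟩ := hcon
    let g1 : ι → k := fun i => (g i0)⁻¹ * g i
    have hg1 : ∑ i, g1 i • v i = 0 := by
      have : ∑ i, g1 i • v i = (g i0)⁻¹ • ∑ i, g i • v i := by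
        rw [Finset.smul_sum]
        exact Finset.sum_congr rfl fun i _ => mul_smul _ _ _
      rw [this, hg, smul_zero]
    have hg10 : g1 i0 = 1 := inv_mul_cancel₀ hi0
    have hg1p : ∑ i, (g1 i) ^ p • v i = 0 := by
      have := congrArg F hg1
      rw [map_sum, map_zero] at this
      rw [← this]
      exact Finset.sum_congr rfl fun i _ => by rw [hF, hv]
    let g2 : ι → k := fun i => (g1 i) ^ p - g1 i
    have hg2 : ∑ i, g2 i • v i = 0 := by
      have : ∑ i, g2 i • v i = ∑ i, (g1 i) ^ p • v i - ∑ i, g1 i • v i := by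
        rw [← Finset.sum_sub_distrib]
        exact Finset.sum_congr rfl fun i _ => sub_smul _ _ _
      rw [this, hg1p, hg1, sub_zero]
    have hlt : (Finset.univ.filter (fun i => g2 i ≠ 0)).card < n := by
      rw [← hn]
      apply Finset.card_lt_card
      rw [Finset.ssubset_iff_of_subset]
      · refine ⟨i0, by simpa using hi0, ?_⟩
        simp [g2, hg10]
      · intro i hi
        simp only [Finset.mem_filter, Finset.mem_univ, true_and] at hi ⊢
        intro h0
        apply hi
        simp [g2, g1, h0, zero_pow hp.out.ne_zero]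
    have h2 : ∀ i, (g1 i) ^ p = g1 i := fun i => sub_eq_zero.mp (ih _ hlt g2 rfl hg2 i)
    choose c hc using fun i => exists_int_of_pow_eq p (g1 i) (h2 i)
    have h3 : ∑ i, c i • v i = 0 := by
      rw [← hg1]
      refine Finset.sum_congr rfl fun i _ => ?_
      rw [← hc i, Int.cast_smul_eq_zsmul]
    have h4 := h c h3 i0
    rw [← CharP.intCast_eq_zero_iff k p, hc i0, hg10] at h4
    exact one_ne_zero h4

include hp hF in
/-- the fixed part meets the nil part trivially -/
theorem eq_zero_of_mem (x : V) (hx : x ∈ fixPart (k := k) F) (hx' : x ∈ nilPart p F hF) :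
    x = 0 := by
  classical
  obtain ⟨m, hm⟩ := hx'
  obtain ⟨b, hb, hbs, hli⟩ := exists_linearIndependent k {v : V | F v = v}
  have hxb : x ∈ Submodule.span k (Set.range (fun v : b => (v : V))) := by
    rw [Subtype.range_coe, hbs]; exact hx
  obtain ⟨c, hc⟩ := (Finsupp.mem_span_range_iff_exists_finsupp).mp hxb
  have h1 : (⇑F)^[m] x = ∑ v ∈ c.support, (c v) ^ (p ^ m) • (v : V) := by
    have h2 : ∀ s : Finset b, (⇑F)^[m] (∑ v ∈ s, c v • (v : V)) =
        ∑ v ∈ s, (c v) ^ (p ^ m) • (v : V) := by
      intro s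
      induction s using Finset.induction_on with
      | empty => simp [iterate_map_zero]
      | insert a s ha ih =>
        rw [Finset.sum_insert ha, iterate_map_add, ih, Finset.sum_insert ha,
          iterate_smul p F hF, Function.iterate_fixed (hb a.2)]
    rw [← h2, ← hc]
    rfl
  rw [hm] at h1
  have h3 := linearIndependent_iff'.mp hli c.support (fun v => (c v) ^ (p ^ m)) h1.symm
  rw [← hc]
  refine Finset.sum_eq_zero fun v hv => ?_
  have h4 := eq_zero_of_pow_eq_zero (h3 v hv)
  change c v • (v : V) = 0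
  rw [h4, zero_smul]

end K67.PLinear
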