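import Groth.Agent.CAlg.K67.TorDev
import Mathlib.LinearAlgebra.TensorProduct.Prod
import Mathlib.LinearAlgebra.Prod
import Mathlib.RingTheory.Flat.Tensor

/-!
# Mapping cones of sequences of modules, elementwise

For chain maps `φ : P → Q` of sequences of modules indexed by `ℕ`, the cone `C` with differential `D`;
`exact_of_qi`: it is exact if `φ` induces isomorphisms in homology (elementwise conditions);
`ex_iff`: exactness of `X ⊗ C`.
-/

set_option autoImplicit false

open TensorProduct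

namespace K67.TorCone

universe u

/-- a product of flat modules is flat -/
theorem flat_prod (R : Type*) (M N : Type*) [CommRing R] [AddCommGroup M] [Module R M]
    [AddCommGroup N] [Module R N] [Module.Flat R M] [Module.Flat R N] : Module.Flat R (M × N) := by
  rw [Module.Flat.iff_lTensor_injective']
  intro I
  rw [injective_iff_map_eq_zero]
  intro z hz
  have h1 : (LinearMap.fst R M N).rTensor I z = 0 := by
    apply Module.Flat.lTensor_preserves_injective_linearMap (M := M) I.subtype I.subtype_injective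
    rw [← LinearMap.comp_apply, LinearMap.lTensor_comp_rTensor, ← LinearMap.rTensor_comp_lTensor,
      LinearMap.comp_apply, hz, map_zero, map_zero]
  have h2 : (LinearMap.snd R M N).rTensor I z = 0 := by
    apply Module.Flat.lTensor_preserves_injective_linearMap (M := N) I.subtype I.subtype_injective
    rw [← LinearMap.comp_apply, LinearMap.lTensor_comp_rTensor, ← LinearMap.rTensor_comp_lTensor,
      LinearMap.comp_apply, hz, map_zero, map_zero]
  have h3 : z = (LinearMap.inl R M N).rTensor I ((LinearMap.fst R M N).rTensor I z) +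
      (LinearMap.inr R M N).rTensor I ((LinearMap.snd R M N).rTensor I z) := by
    clear h1 h2 hz
    induction z with
    | zero => simp
    | tmul x y =>
      obtain ⟨m, n⟩ := x
      simp only [LinearMap.rTensor_tmul, LinearMap.fst_apply, LinearMap.snd_apply,
        LinearMap.inl_apply, LinearMap.inr_apply, ← add_tmul, Prod.mk_add_mk, add_zero, zero_add]
    | add x y hx hy =>
      simp only [map_add]
      nth_rewrite 1 [hx]
      nth_rewrite 1 [hy]
      abel
  rw [h3, h1, h2, map_zero, map_zero, add_zero]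

variable {A : Type u} [CommRing A] (P Q : ℕ → Type u) [∀ i, AddCommGroup (P i)]
  [∀ i, Module A (P i)] [∀ i, AddCommGroup (Q i)] [∀ i, Module A (Q i)]

/-- the terms of the cone, shifted by one -/
def C (P Q : ℕ → Type u) : ℕ → Type u
  | 0 => PUnit
  | 1 => Q 0
  | n + 2 => Q (n + 1) × P n

instance : ∀ n, AddCommGroup (C P Q n)
  | 0 => inferInstanceAs (AddCommGroup PUnit)
  | 1 => inferInstanceAs (AddCommGroup (Q 0))
  | n + 2 => inferInstanceAs (AddCommGroup (Q (n + 1) × P n))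

instance : ∀ n, Module A (C P Q n)
  | 0 => inferInstanceAs (Module A PUnit)
  | 1 => inferInstanceAs (Module A (Q 0))
  | n + 2 => inferInstanceAs (Module A (Q (n + 1) × P n))

instance flatC [∀ i, Module.Flat A (P i)] [∀ i, Module.Flat A (Q i)] :
    ∀ n, Module.Flat A (C P Q n)
  | 0 => inferInstanceAs (Module.Flat A PUnit)
  | 1 => inferInstanceAs (Module.Flat A (Q 0))
  | n + 2 => flat_prod A (Q (n + 1)) (P n)

variable {P Q} (dP : ∀ i, P (i + 1) →ₗ[A] P i) (dQ : ∀ i, Q (i + 1) →ₗ[A] Q i)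
  (φ : ∀ i, P i →ₗ[A] Q i)

/-- the differential of the cone -/
def D : ∀ n, C P Q (n + 1) →ₗ[A] C P Q n
  | 0 => 0
  | 1 => (dQ 0).coprod (φ 0)
  | n + 2 => LinearMap.prod ((dQ (n + 1)).coprod (φ (n + 1))) (-(dP n ∘ₗ LinearMap.snd A _ _))

theorem D_one (q : Q 1) (p : P 0) :
    D dP dQ φ 1 (show C P Q 2 from (q, p)) = (show C P Q 1 from dQ 0 q + φ 0 p) := rfl

theorem D_succ (n : ℕ) (q : Q (n + 2)) (p : P (n + 1)) :
    D dP dQ φ (n + 2) (show C P Q (n + 3) from (q, p)) =
      (show C P Q (n + 2) from (dQ (n + 1) q + φ (n + 1) p, -(dP n p))) := rfl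

section DD

variable {dP dQ φ} (hP : ∀ i, dP i ∘ₗ dP (i + 1) = 0) (hQ : ∀ i, dQ i ∘ₗ dQ (i + 1) = 0)
  (hφ : ∀ i, φ i ∘ₗ dP i = dQ i ∘ₗ φ (i + 1))
include hP hQ hφ

theorem DD : ∀ n, D dP dQ φ n ∘ₗ D dP dQ φ (n + 1) = 0
  | 0 => by rw [D]; exact LinearMap.zero_comp _
  | 1 => by
    apply LinearMap.ext
    rintro ⟨q, p⟩
    change dQ 0 (dQ 1 q + φ 1 p) + φ 0 (-(dP 0 p)) = 0
    have h1 : dQ 0 (dQ 1 q) = 0 := LinearMap.congr_fun (hQ 0) q
    have h2 : φ 0 (dP 0 p) = dQ 0 (φ 1 p) := LinearMap.congr_fun (hφ 0) p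
    rw [map_add, map_neg, h1, h2]; abel
  | n + 2 => by
    apply LinearMap.ext
    rintro ⟨q, p⟩
    change (dQ (n + 1) (dQ (n + 2) q + φ (n + 2) p) + φ (n + 1) (-(dP (n + 1) p)),
      -(dP n (-(dP (n + 1) p)))) = (0, 0)
    have h1 : dQ (n + 1) (dQ (n + 2) q) = 0 := LinearMap.congr_fun (hQ (n + 1)) q
    have h2 : φ (n + 1) (dP (n + 1) p) = dQ (n + 1) (φ (n + 2) p) :=
      LinearMap.congr_fun (hφ (n + 1)) p
    have h3 : dP n (dP (n + 1) p) = 0 := LinearMap.congr_fun (hP n) p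
    rw [map_add, map_neg, h1, h2, map_neg, h3]
    congr 1 <;> simp

/-- a homology isomorphism has an exact cone -/
theorem exact_of_qi
    (inj0 : ∀ p : P 0, φ 0 p ∈ LinearMap.range (dQ 0) → p ∈ LinearMap.range (dP 0))
    (surj0 : ∀ q : Q 0, ∃ p : P 0, q - φ 0 p ∈ LinearMap.range (dQ 0))
    (inj : ∀ (n : ℕ) (p : P (n + 1)), dP n p = 0 → φ (n + 1) p ∈ LinearMap.range (dQ (n + 1)) →
      p ∈ LinearMap.range (dP (n + 1)))
    (surj : ∀ (n : ℕ) (q : Q (n + 1)), dQ n q = 0 → ∃ p : P (n + 1), dP n p = 0 ∧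
      q - φ (n + 1) p ∈ LinearMap.range (dQ (n + 1))) :
    ∀ j, Function.Exact (D dP dQ φ (j + 1)) (D dP dQ φ j)
  | 0 => by
    intro q
    refine ⟨fun _ => ?_, fun ⟨y, hy⟩ => hy ▸ LinearMap.congr_fun (DD hP hQ hφ 0) y⟩
    obtain ⟨p, q1, h⟩ := surj0 q
    refine ⟨(show C P Q 2 from (q1, p)), ?_⟩
    rw [D_one, h]
    exact sub_add_cancel _ _
  | 1 => by
    rintro ⟨q, p⟩
    refine ⟨fun h => ?_, fun ⟨y, hy⟩ => hy ▸ LinearMap.congr_fun (DD hP hQ hφ 1) y⟩
    have h0 : dQ 0 q + φ 0 p = 0 := h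
    obtain ⟨p', rfl⟩ := inj0 p ⟨-q, by rw [map_neg]; exact neg_eq_of_add_eq_zero_right h0⟩
    have h2 : φ 0 (dP 0 p') = dQ 0 (φ 1 p') := LinearMap.congr_fun (hφ 0) p'
    obtain ⟨p'', hp'', q2, hq2⟩ := surj 0 (q + φ 1 p') (by rw [map_add, ← h2]; exact h0)
    refine ⟨(show C P Q 3 from (q2, p'' - p')), ?_⟩
    refine Prod.ext ?_ ?_
    · change dQ 1 q2 + φ 1 (p'' - p') = q
      rw [hq2, map_sub]
      simp only [Nat.zero_add]
      abel
    · change -(dP 0 (p'' - p')) = dP 0 p'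
      rw [map_sub, hp'', zero_sub, neg_neg]
  | n + 2 => by
    rintro ⟨q, p⟩
    refine ⟨fun h => ?_, fun ⟨y, hy⟩ => hy ▸ LinearMap.congr_fun (DD hP hQ hφ (n + 2)) y⟩
    have h0 : dQ (n + 1) q + φ (n + 1) p = 0 := congrArg Prod.fst h
    have h0' : dP n p = 0 := neg_eq_zero.mp (congrArg Prod.snd h)
    obtain ⟨p', rfl⟩ := inj n p h0' ⟨-q, by rw [map_neg]; exact neg_eq_of_add_eq_zero_right h0⟩
    have h2 : φ (n + 1) (dP (n + 1) p') = dQ (n + 1) (φ (n + 2) p') :=
      LinearMap.congr_fun (hφ (n + 1)) p'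
    obtain ⟨p'', hp'', q2, hq2⟩ := surj (n + 1) (q + φ (n + 2) p') (by
      rw [map_add, ← h2]; exact h0)
    refine ⟨(show C P Q (n + 4) from (q2, p'' - p')), ?_⟩
    refine Prod.ext ?_ ?_
    · change dQ (n + 2) q2 + φ (n + 2) (p'' - p') = q
      rw [hq2, map_sub]
      abel
    · change -(dP (n + 1) (p'' - p')) = dP (n + 1) p'
      rw [map_sub, hp'', zero_sub, neg_neg]

end DD

section Tensor

variable (X : Type u) [AddCommGroup X] [Module A X]

theorem tensor_zero_eq (z : X ⊗[A] C P Q 0) : z = 0 := by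
  induction z with
  | zero => rfl
  | tmul a b =>
    have : b = 0 := rfl
    rw [this, tmul_zero]
  | add a b ha hb => rw [ha, hb, add_zero]

/-- `X ⊗ C = C(X ⊗ P, X ⊗ Q)` -/
noncomputable def e : ∀ n, X ⊗[A] C P Q n ≃ₗ[A] C (fun i => X ⊗[A] P i) (fun i => X ⊗[A] Q i) n
  | 0 =>
    { toFun := fun _ => PUnit.unit
      invFun := fun _ => 0
      map_add' := fun _ _ => rfl
      map_smul' := fun _ _ => rfl
      left_inv := fun z => (tensor_zero_eq X z).symm
      right_inv := fun _ => rfl }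
  | 1 => LinearEquiv.refl A (X ⊗[A] Q 0)
  | n + 2 => TensorProduct.prodRight A A X (Q (n + 1)) (P n)

theorem e_nat : ∀ (n : ℕ) (z : X ⊗[A] C P Q (n + 1)),
    e X n ((D dP dQ φ n).lTensor X z) =
      D (fun i => (dP i).lTensor X) (fun i => (dQ i).lTensor X) (fun i => (φ i).lTensor X) n
        (e X (n + 1) z)
  | 0, z => rfl
  | 1, z => by
    induction z with
    | zero => simp
    | tmul x c =>
      obtain ⟨q, p⟩ := c
      change x ⊗ₜ[A] (dQ 0 q + φ 0 p) = (dQ 0).lTensor X (x ⊗ₜ q) + (φ 0).lTensor X (x ⊗ₜ p)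
      rw [tmul_add]
      rfl
    | add a b ha hb => rw [map_add, map_add, ha, hb, map_add, map_add]
  | n + 2, z => by
    induction z with
    | zero => simp
    | tmul x c =>
      obtain ⟨q, p⟩ := c
      change (x ⊗ₜ[A] (dQ (n + 1) q + φ (n + 1) p), x ⊗ₜ[A] (-(dP n p))) =
        ((dQ (n + 1)).lTensor X (x ⊗ₜ q) + (φ (n + 1)).lTensor X (x ⊗ₜ p),
          -((dP n).lTensor X (x ⊗ₜ p)))
      rw [tmul_add, tmul_neg]
      rfl
    | add a b ha hb => rw [map_add, map_add, ha, hb, map_add, map_add]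

theorem ex_iff (j : ℕ) : TorDev.Ex (D dP dQ φ) j X ↔
    Function.Exact (D (fun i => (dP i).lTensor X) (fun i => (dQ i).lTensor X)
        (fun i => (φ i).lTensor X) (j + 1))
      (D (fun i => (dP i).lTensor X) (fun i => (dQ i).lTensor X) (fun i => (φ i).lTensor X) j) := by
  constructor
  · intro h z
    obtain ⟨z, rfl⟩ := (e X (j + 1)).surjective z
    rw [← e_nat, LinearEquiv.map_eq_zero_iff]
    refine (h z).trans ?_
    constructor
    · rintro ⟨w, rfl⟩
      exact ⟨e X (j + 1 + 1) w, by rw [← e_nat]⟩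
    · rintro ⟨w, hw⟩
      obtain ⟨w, rfl⟩ := (e X (j + 1 + 1)).surjective w
      rw [← e_nat] at hw
      exact ⟨w, (e X (j + 1)).injective hw⟩
  · intro h z
    have := h (e X (j + 1) z)
    rw [← e_nat, LinearEquiv.map_eq_zero_iff] at this
    refine this.trans ?_
    constructor
    · rintro ⟨w, hw⟩
      obtain ⟨w, rfl⟩ := (e X (j + 1 + 1)).surjective w
      rw [← e_nat] at hw
      exact ⟨w, (e X (j + 1)).injective hw⟩
    · rintro ⟨w, rfl⟩
      exact ⟨e X (j + 1 + 1) w, by rw [← e_nat]⟩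

end Tensor

end K67.TorCone

namespace K67.TorDev

universe u v

/-- exactness of `A ⊗ K` is exactness of `K` -/
theorem ex_self {A : Type u} [CommRing A] {K : ℕ → Type v} [∀ i, AddCommGroup (K i)]
    [∀ i, Module A (K i)] (d : ∀ i, K (i + 1) →ₗ[A] K i) (j : ℕ) (h : Ex d j A) :
    Function.Exact (d (j + 1)) (d j) := by
  have hn : ∀ (i : ℕ) (z : A ⊗[A] K (i + 1)), TensorProduct.lid A (K i) ((d i).lTensor A z) =
      d i (TensorProduct.lid A (K (i + 1)) z) := by
    intro i z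
    induction z with
    | zero => simp
    | tmul a b => simp
    | add a b ha hb => rw [map_add, map_add, ha, hb, map_add, map_add]
  intro z
  obtain ⟨z, rfl⟩ := (TensorProduct.lid A (K (j + 1))).surjective z
  rw [← hn, LinearEquiv.map_eq_zero_iff]
  refine (h z).trans ?_
  constructor
  · rintro ⟨w, rfl⟩
    exact ⟨TensorProduct.lid A _ w, by rw [← hn]⟩
  · rintro ⟨w, hw⟩
    obtain ⟨w, rfl⟩ := (TensorProduct.lid A (K (j + 1 + 1))).surjective w
    rw [← hn] at hw
    exact ⟨w, (TensorProduct.lid A _).injective hw⟩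

end K67.TorDev
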