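import Mathlib.RingTheory.Ideal.AssociatedPrime.Finiteness
import Mathlib.RingTheory.Flat.Basic
import Mathlib.LinearAlgebra.TensorProduct.Finiteness
import Mathlib.LinearAlgebra.TensorProduct.RightExactness
import Mathlib.RingTheory.LocalRing.ResidueField.Ideal
import Mathlib.Order.Minimal

/-!
# Dévissage for complexes of flat modules over a Noetherian ring

`K` is a sequence `⋯ → K 2 → K 1 → K 0` of flat modules over a Noetherian ring `A`.
`Ex K d j N` means that `N ⊗ K (j+2) → N ⊗ K (j+1) → N ⊗ K j` is exact.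
Main result `ex_of_residueField`: if this holds for all residue fields `N = κ(p)` and all `j ≥ n`,
then it holds for all modules `N` and `j ≥ n`.
-/

set_option autoImplicit false

open TensorProduct

namespace K67.TorDev

universe u v w

variable {A : Type u} [CommRing A] {K : ℕ → Type v} [∀ i, AddCommGroup (K i)]
  [∀ i, Module A (K i)] (d : ∀ i, K (i + 1) →ₗ[A] K i)

/-- exactness of `N ⊗ K (j+2) → N ⊗ K (j+1) → N ⊗ K j` -/
def Ex (j : ℕ) (N : Type w) [AddCommGroup N] [Module A N] : Prop :=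
  Function.Exact ((d (j + 1)).lTensor N) ((d j).lTensor N)

section Formal

variable {d} {N N' N'' : Type w} [AddCommGroup N] [Module A N] [AddCommGroup N'] [Module A N']
  [AddCommGroup N''] [Module A N'']

theorem nat (f : N →ₗ[A] N') (i : ℕ) (z : N ⊗[A] K (i + 1)) :
    f.rTensor (K i) ((d i).lTensor N z) = (d i).lTensor N' (f.rTensor (K (i + 1)) z) := by
  rw [← LinearMap.comp_apply, ← LinearMap.comp_apply, LinearMap.rTensor_comp_lTensor,
    LinearMap.lTensor_comp_rTensor]

theorem dd (hdd : ∀ i, d i ∘ₗ d (i + 1) = 0) (i : ℕ) (z : N ⊗[A] K (i + 1 + 1)) :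
    (d i).lTensor N ((d (i + 1)).lTensor N z) = 0 := by
  rw [← LinearMap.comp_apply, ← LinearMap.lTensor_comp, hdd, LinearMap.lTensor_zero]
  rfl

theorem Ex.equiv (e : N ≃ₗ[A] N') {j : ℕ} (h : Ex d j N) : Ex d j N' := by
  intro z
  constructor
  · intro hz
    have h1 : (d j).lTensor N (e.symm.toLinearMap.rTensor _ z) = 0 := by
      rw [← nat, hz, map_zero]
    obtain ⟨w, hw⟩ := (h _).mp h1
    refine ⟨e.toLinearMap.rTensor _ w, ?_⟩
    rw [← nat, hw, ← LinearMap.comp_apply, ← LinearMap.rTensor_comp]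
    simp
  · rintro ⟨w, rfl⟩
    have h1 := (h _).mpr ⟨e.symm.toLinearMap.rTensor _ w, rfl⟩
    have h2 := congrArg (e.toLinearMap.rTensor (K j)) h1
    rw [nat, nat, ← LinearMap.comp_apply (e.toLinearMap.rTensor _), ← LinearMap.rTensor_comp,
      map_zero] at h2
    simpa using h2

theorem Ex.of_subsingleton [Subsingleton N] (j : ℕ) : Ex d j N := by
  haveI : ∀ i, Subsingleton (N ⊗[A] K i) := fun i => by
    refine ⟨fun x y => ?_⟩
    have : ∀ z : N ⊗[A] K i, z = 0 := by
      intro z
      induction z with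
      | zero => rfl
      | tmul a b => rw [Subsingleton.elim a 0, zero_tmul]
      | add a b ha hb => rw [ha, hb, add_zero]
    rw [this x, this y]
  intro z
  exact ⟨fun _ => ⟨0, Subsingleton.elim _ _⟩, fun _ => Subsingleton.elim _ _⟩

variable [∀ i, Module.Flat A (K i)] (hdd : ∀ i, d i ∘ₗ d (i + 1) = 0)
include hdd

/-- the kernel -/
theorem Ex.ker (f : N' →ₗ[A] N) (g : N →ₗ[A] N'') (hf : Function.Injective f)
    (hg : Function.Surjective g) (hfg : Function.Exact f g) {j : ℕ}
    (h'' : Ex d (j + 1) N'') (h : Ex d j N) : Ex d j N' := by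
  intro z'
  refine ⟨fun hz => ?_, ?_⟩
  · have h1 : (d j).lTensor N (f.rTensor _ z') = 0 := by rw [← nat, hz, map_zero]
    obtain ⟨w, hw⟩ := (h _).mp h1
    have h2 : (d (j + 1)).lTensor N'' (g.rTensor _ w) = 0 := by
      rw [← nat, hw, ← LinearMap.comp_apply, ← LinearMap.rTensor_comp, hfg.linearMap_comp_eq_zero]
      simp
    obtain ⟨y'', hy''⟩ := (h'' _).mp h2
    obtain ⟨y, rfl⟩ := LinearMap.rTensor_surjective (K (j + 1 + 1 + 1)) hg y''
    have h3 : g.rTensor _ (w - (d (j + 1 + 1)).lTensor N y) = 0 := by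
      rw [map_sub, nat, hy'', sub_self]
    obtain ⟨w', hw'⟩ := (rTensor_exact (K (j + 1 + 1)) hfg hg _).mp h3
    refine ⟨w', ?_⟩
    apply Module.Flat.rTensor_preserves_injective_linearMap (M := K (j + 1)) f hf
    rw [nat, hw', map_sub, hw, dd hdd, sub_zero]
  · rintro ⟨w, rfl⟩
    exact dd hdd _ _

/-- extensions -/
theorem Ex.ext (f : N' →ₗ[A] N) (g : N →ₗ[A] N'') (hf : Function.Injective f)
    (hg : Function.Surjective g) (hfg : Function.Exact f g) {j : ℕ}
    (h' : Ex d j N') (h'' : Ex d j N'') : Ex d j N := by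
  intro z
  refine ⟨fun hz => ?_, ?_⟩
  · have h1 : (d j).lTensor N'' (g.rTensor _ z) = 0 := by rw [← nat, hz, map_zero]
    obtain ⟨w'', hw''⟩ := (h'' _).mp h1
    obtain ⟨w, rfl⟩ := LinearMap.rTensor_surjective (K (j + 1 + 1)) hg w''
    have h3 : g.rTensor _ (z - (d (j + 1)).lTensor N w) = 0 := by
      rw [map_sub, nat, hw'', sub_self]
    obtain ⟨z', hz'⟩ := (rTensor_exact (K (j + 1)) hfg hg _).mp h3
    have h4 : (d j).lTensor N' z' = 0 := by
      apply Module.Flat.rTensor_preserves_injective_linearMap (M := K j) f hf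
      rw [nat, hz', map_sub, hz, dd hdd, sub_zero, map_zero]
    obtain ⟨w', hw'⟩ := (h' _).mp h4
    refine ⟨w + f.rTensor _ w', ?_⟩
    rw [map_add, ← nat, hw', hz']
    abel
  · rintro ⟨w, rfl⟩
    exact dd hdd _ _

/-- directed unions -/
theorem Ex.of_fg {j : ℕ} (h : ∀ N₀ : Submodule A N, N₀.FG → Ex d j N₀) : Ex d j N := by
  intro z
  refine ⟨fun hz => ?_, ?_⟩
  · obtain ⟨N₀, hN₀, hz₀⟩ := TensorProduct.exists_finite_submodule_left_of_setFinite {z}
      (Set.finite_singleton z)
    obtain ⟨z₀, rfl⟩ := hz₀ (Set.mem_singleton z)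
    have h1 : (d j).lTensor N₀ z₀ = 0 := by
      apply Module.Flat.rTensor_preserves_injective_linearMap (M := K j) N₀.subtype
        N₀.subtype_injective
      rw [nat, hz, map_zero]
    obtain ⟨w, hw⟩ := (h N₀ (Module.Finite.iff_fg.mp hN₀) _).mp h1
    exact ⟨N₀.subtype.rTensor _ w, by rw [← nat, hw]⟩
  · rintro ⟨w, rfl⟩
    exact dd hdd _ _

end Formal

section Main

variable {d} [IsNoetherianRing A] [∀ i, Module.Flat A (K i)] (hdd : ∀ i, d i ∘ₗ d (i + 1) = 0)
include hdd

/-- The step of the dévissage. -/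
theorem step (n : ℕ)
    (h : ∀ (p : Ideal A) [p.IsPrime] (j : ℕ), n ≤ j → Ex d j p.ResidueField)
    (q : Ideal A) (hq : q.IsPrime)
    (hgood : ∀ r : Ideal A, r.IsPrime → q < r → ∀ j : ℕ, n ≤ j → Ex d j (A ⧸ r)) :
    ∀ j : ℕ, n ≤ j → Ex d j (A ⧸ q) := by
  intro j hj
  -- modules killed by something bigger than `q`
  have hfin : ∀ (N : Type u) [AddCommGroup N] [Module A N], Module.Finite A N →
      (∃ s : A, s ∉ q ∧ ∀ x : N, s • x = 0) → (∀ a ∈ q, ∀ x : N, a • x = 0) →
        ∀ j : ℕ, n ≤ j → Ex d j N := by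
    intro N _ _ hN
    induction hN using IsNoetherianRing.induction_on_isQuotientEquivQuotientPrime A with
    | subsingleton N => intro _ _ j _; exact Ex.of_subsingleton j
    | quotient N r e =>
      rintro ⟨s, hs, hsN⟩ hqN j hj
      have h1 : ∀ a : A, (∀ x : N, a • x = 0) → a ∈ r.1 := by
        intro a ha
        have h2 : a • (e (e.symm 1)) = 0 := by rw [← map_smul, ha, map_zero]
        rw [LinearEquiv.apply_symm_apply] at h2
        have h3 : Ideal.Quotient.mk r.1 a = 0 := by
          have : a • (1 : A ⧸ r.1) = Ideal.Quotient.mk r.1 a := by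
            rw [Algebra.smul_def, mul_one]; rfl
          rw [← this, h2]
        exact Ideal.Quotient.eq_zero_iff_mem.mp h3
      have h2 : q < r.1 := lt_of_le_of_ne (fun a ha => h1 a (hqN a ha))
        (fun heq => hs (heq ▸ h1 s hsN))
      exact (hgood r.1 r.2 h2 j hj).equiv e.symm
    | exact N₁ N₂ N₃ f g hf hg hfg ih1 ih3 =>
      rintro ⟨s, hs, hsN⟩ hqN j hj
      refine Ex.ext hdd f g hf hg hfg (ih1 ⟨s, hs, fun x => hf ?_⟩ (fun a ha x => hf ?_) j hj)
        (ih3 ⟨s, hs, fun x => ?_⟩ (fun a ha x => ?_) j hj)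
      · rw [map_smul, hsN, map_zero]
      · rw [map_smul, hqN a ha, map_zero]
      · obtain ⟨y, rfl⟩ := hg x
        rw [← map_smul, hsN, map_zero]
      · obtain ⟨y, rfl⟩ := hg x
        rw [← map_smul, hqN a ha, map_zero]
  -- the sequence `0 → A/q → κ(q) → C → 0`
  let f : (A ⧸ q) →ₗ[A] q.ResidueField := (IsScalarTower.toAlgHom A (A ⧸ q) q.ResidueField).toLinearMap
  have hf : Function.Injective f := q.injective_algebraMap_quotient_residueField
  let C := q.ResidueField ⧸ LinearMap.range f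
  let g : q.ResidueField →ₗ[A] C := (LinearMap.range f).mkQ
  have hC : ∀ j : ℕ, n ≤ j → Ex d j C := by
    intro j hj
    apply Ex.of_fg hdd
    intro N₀ hN₀
    have hq0 : ∀ a ∈ q, ∀ x : q.ResidueField, a • x = 0 := by
      intro a ha x
      have : algebraMap A q.ResidueField a = 0 := by
        rw [← RingHom.mem_ker, Ideal.ker_algebraMap_residueField]; exact ha
      rw [Algebra.smul_def, this, zero_mul]
    have hqC : ∀ a ∈ q, ∀ x : C, a • x = 0 := by
      intro a ha x
      obtain ⟨y, rfl⟩ := Submodule.mkQ_surjective _ x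
      rw [← map_smul, hq0 a ha, map_zero]
    -- a common denominator
    have hden : ∀ x : C, ∃ s : A, s ∉ q ∧ s • x = 0 := by
      intro x
      obtain ⟨y, rfl⟩ := Submodule.mkQ_surjective _ x
      obtain ⟨a, b, hb, hab⟩ := IsFractionRing.div_surjective (A := A ⧸ q) y
      obtain ⟨s, rfl⟩ := Ideal.Quotient.mk_surjective b
      refine ⟨s, fun hs => ?_, ?_⟩
      · have : Ideal.Quotient.mk q s = 0 := Ideal.Quotient.eq_zero_iff_mem.mpr hs
        rw [this] at hb
        exact nonZeroDivisors.ne_zero hb rfl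
      · rw [← map_smul, Submodule.mkQ_apply, Submodule.Quotient.mk_eq_zero]
        refine ⟨a, ?_⟩
        have hb0 : algebraMap (A ⧸ q) q.ResidueField (Ideal.Quotient.mk q s) ≠ 0 := by
          intro h0
          have := q.injective_algebraMap_quotient_residueField (h0.trans (map_zero _).symm)
          rw [this] at hb
          exact nonZeroDivisors.ne_zero hb rfl
        have hs' : algebraMap A q.ResidueField s =
            algebraMap (A ⧸ q) q.ResidueField (Ideal.Quotient.mk q s) := rfl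
        rw [Algebra.smul_def, hs', ← hab, mul_div_cancel₀ _ hb0]
        rfl
    obtain ⟨S, hS⟩ := hN₀
    have hs : ∃ s : A, s ∉ q ∧ ∀ x ∈ S, s • x = 0 := by
      clear hS
      classical
      induction S using Finset.induction_on with
      | empty => exact ⟨1, fun h => hq.ne_top ((Ideal.eq_top_iff_one _).mpr h), by simp⟩
      | insert x S _ ih =>
        obtain ⟨s, hs, hsS⟩ := ih
        obtain ⟨t, ht, htx⟩ := hden x
        refine ⟨s * t, fun h => (hq.mem_or_mem h).elim hs ht, fun y hy => ?_⟩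
        rcases Finset.mem_insert.mp hy with rfl | hy
        · rw [mul_smul, htx, smul_zero]
        · rw [mul_comm, mul_smul, hsS y hy, smul_zero]
    obtain ⟨s, hs, hsS⟩ := hs
    refine hfin N₀ (Module.Finite.iff_fg.mpr ⟨S, hS⟩) ⟨s, hs, fun x => ?_⟩
      (fun a ha x => Subtype.ext (hqC a ha x)) j hj
    apply Subtype.ext
    change s • (x : C) = 0
    have hx : (x : C) ∈ Submodule.span A (S : Set C) := by rw [hS]; exact x.2
    refine Submodule.span_induction ?_ ?_ ?_ ?_ hx
    · intro y hy; exact hsS y hy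
    · rw [smul_zero]
    · intro y z _ _ hy hz; rw [smul_add, hy, hz, add_zero]
    · intro a y _ hy; rw [smul_comm, hy, smul_zero]
  exact Ex.ker hdd f g hf (Submodule.mkQ_surjective _) (LinearMap.exact_map_mkQ_range f)
    (hC (j + 1) (hj.trans (Nat.le_succ j))) (h q j hj)

/-- Noetherian dévissage. -/
theorem ex_quotient (n : ℕ)
    (h : ∀ (p : Ideal A) [p.IsPrime] (j : ℕ), n ≤ j → Ex d j p.ResidueField)
    (p : Ideal A) (hp : p.IsPrime) : ∀ j : ℕ, n ≤ j → Ex d j (A ⧸ p) := by
  by_contra hcon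
  -- a maximal counterexample
  let T : Set (Ideal A) := {q | q.IsPrime ∧ ¬ ∀ j : ℕ, n ≤ j → Ex d j (A ⧸ q)}
  have hT : T.Nonempty := ⟨p, hp, hcon⟩
  obtain ⟨q', ⟨hq', hqbad⟩, hmax⟩ := set_has_maximal_iff_noetherian.mpr
    (inferInstance : IsNoetherian A A) T hT
  apply hqbad
  have hgood : ∀ r : Ideal A, r.IsPrime → q' < r → ∀ j : ℕ, n ≤ j → Ex d j (A ⧸ r) := by
    intro r hr hqr
    by_contra hbad
    exact hmax r ⟨hr, hbad⟩ hqr
  clear hmax hqbad hT hcon
  exact step hdd n h q' hq' hgood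

theorem ex_finite (n : ℕ)
    (h : ∀ (p : Ideal A) [p.IsPrime] (j : ℕ), n ≤ j → Ex d j p.ResidueField)
    (N : Type u) [AddCommGroup N] [Module A N] (hN : Module.Finite A N) :
    ∀ j : ℕ, n ≤ j → Ex d j N := by
  induction hN using IsNoetherianRing.induction_on_isQuotientEquivQuotientPrime A with
  | subsingleton N => intro j _; exact Ex.of_subsingleton j
  | quotient N r e =>
    intro j hj
    exact (ex_quotient hdd n h r.1 r.2 j hj).equiv e.symm
  | exact N₁ N₂ N₃ f g hf hg hfg ih1 ih3 =>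
    intro j hj
    exact Ex.ext hdd f g hf hg hfg (ih1 j hj) (ih3 j hj)

/-- **Main theorem.** Exactness after tensoring with all residue fields implies exactness after
tensoring with all modules. -/
theorem ex_of_residueField (n : ℕ)
    (h : ∀ (p : Ideal A) [p.IsPrime] (j : ℕ), n ≤ j → Ex d j p.ResidueField)
    (N : Type u) [AddCommGroup N] [Module A N] (j : ℕ) (hj : n ≤ j) : Ex d j N :=
  Ex.of_fg hdd fun N₀ hN₀ => ex_finite hdd n h N₀ (Module.Finite.iff_fg.mpr hN₀) j hj

end Main

end K67.TorDev
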