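import Groth.Agent.CAlg.K67.TorCone
import Groth.Agent.CAlg.K67.ClassMod
import Mathlib.CategoryTheory.Monoidal.Tor
import Mathlib.CategoryTheory.Abelian.LeftDerived
import Mathlib.Algebra.Category.ModuleCat.Monoidal.Basic
import Mathlib.Algebra.Category.ModuleCat.Monoidal.Closed
import Mathlib.Algebra.Category.ModuleCat.Projective
import Mathlib.Algebra.Homology.ShortComplex.ModuleCat
import Mathlib.RingTheory.Flat.Basic

/-!
# Tor and exactness of tensored resolutions, elementwise
-/

set_option autoImplicit false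

universe u

open CategoryTheory CategoryTheory.Limits MonoidalCategory TensorProduct

namespace K67.TorMain

variable {A : Type u} [CommRing A]

/-- the complex `N ⊗ P` -/
noncomputable abbrev tc (N : ModuleCat.{u} A) (P : ChainComplex (ModuleCat.{u} A) ℕ) :
    ChainComplex (ModuleCat.{u} A) ℕ :=
  (((tensoringLeft (ModuleCat.{u} A)).obj N).mapHomologicalComplex (ComplexShape.down ℕ)).obj P

/-- the differentials of a complex, as linear maps -/
def dl (P : ChainComplex (ModuleCat.{u} A) ℕ) (i : ℕ) : P.X (i + 1) →ₗ[A] P.X i :=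
  (P.d (i + 1) i).hom

theorem dl_comp (P : ChainComplex (ModuleCat.{u} A) ℕ) (i : ℕ) : dl P i ∘ₗ dl P (i + 1) = 0 := by
  have := congrArg ModuleCat.Hom.hom (P.d_comp_d (i + 1 + 1) (i + 1) i)
  exact this

theorem tc_d (N : ModuleCat.{u} A) (P : ChainComplex (ModuleCat.{u} A) ℕ) (i : ℕ) :
    ((tc N P).d (i + 1) i).hom = (dl P i).lTensor N := rfl

theorem isZero_iff_ex (N : ModuleCat.{u} A) (P : ChainComplex (ModuleCat.{u} A) ℕ) (j : ℕ) :
    IsZero ((tc N P).homology (j + 1)) ↔ TorDev.Ex (K := fun i => P.X i) (dl P) j N := by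
  rw [← HomologicalComplex.exactAt_iff_isZero_homology,
    HomologicalComplex.exactAt_iff' _ (j + 1 + 1) (j + 1) j (by simp) (by simp),
    ShortComplex.ShortExact.moduleCat_exact_iff_function_exact]
  rfl

theorem flat_of_projective (P : ModuleCat.{u} A) [Projective P] : Module.Flat A P := by
  haveI : Module.Projective A P := (IsProjective.iff_projective P).mpr inferInstance
  infer_instance

theorem tor_isZero_iff (N M : ModuleCat.{u} A) (P : ProjectiveResolution M) (j : ℕ) :
    IsZero (((Tor (ModuleCat.{u} A) (j + 1)).obj N).obj M) ↔ TorDev.Ex (K := fun i => P.complex.X i) (dl P.complex) j N := by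
  rw [← isZero_iff_ex]
  exact (P.isoLeftDerivedObj ((tensoringLeft (ModuleCat.{u} A)).obj N) (j + 1)).isZero_iff

theorem tor_main [IsNoetherianRing A] (M : ModuleCat.{u} A) (n : ℕ)
    (h : ∀ (x : Ideal A) [x.IsPrime] (i : ℕ), n < i →
      IsZero (((Tor (ModuleCat.{u} A) i).obj (ModuleCat.of A x.ResidueField)).obj M))
    (N : ModuleCat.{u} A) (i : ℕ) (hi : n < i) :
    IsZero (((Tor (ModuleCat.{u} A) i).obj N).obj M) := by
  let P := projectiveResolution M
  haveI : ∀ i, Module.Flat A (P.complex.X i) := fun i => flat_of_projective _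
  obtain ⟨j, rfl⟩ := Nat.exists_eq_succ_of_ne_zero (Nat.ne_zero_of_lt hi)
  rw [Nat.succ_eq_add_one, tor_isZero_iff N M P j]
  refine TorDev.ex_of_residueField (K := fun i => P.complex.X i) (dl_comp P.complex) n (fun p _ j hj => ?_) N j
    (Nat.le_of_lt_succ hi)
  exact (tor_isZero_iff (ModuleCat.of A p.ResidueField) M P j).mp (h p (j + 1) (Nat.lt_succ_of_le hj))

section Iso

variable {P Q : ChainComplex (ModuleCat.{u} A) ℕ} (φ : P ⟶ Q)

/-- the components of a chain map -/
def fl (i : ℕ) : P.X i →ₗ[A] Q.X i := (φ.f i).hom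

theorem fl_comm (i : ℕ) : fl φ i ∘ₗ dl P i = dl Q i ∘ₗ fl φ (i + 1) :=
  congrArg ModuleCat.Hom.hom (φ.comm (i + 1) i).symm

/-- Elementwise form of: `φ` induces isomorphisms in homology. -/
theorem exact_cone (hbij : ∀ i, Function.Bijective (HomologicalComplex.homologyMap φ i)) (j : ℕ) :
    Function.Exact (TorCone.D (dl P) (dl Q) (fl φ) (j + 1)) (TorCone.D (dl P) (dl Q) (fl φ) j) := by
  refine TorCone.exact_of_qi (dl_comp P) (dl_comp Q) (fl_comm φ) ?_ ?_ ?_ ?_ j
  · rintro p ⟨q, hq⟩
    obtain ⟨y, hy⟩ := (ClassMod.injective_homologyMap_iff φ 1 0 (by simp) (by simp)).mp (hbij 0).1 p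
      (by rw [P.shape 0 0 (by simp)]; rfl) ⟨q, hq⟩
    exact ⟨y, hy⟩
  · intro q
    obtain ⟨p, y, -, hy⟩ := (ClassMod.surjective_homologyMap_iff φ 1 0 (by simp) (by simp)).mp
      (hbij 0).2 q (by rw [Q.shape 0 0 (by simp)]; rfl)
    exact ⟨p, y, by rw [← hy]; exact (add_sub_cancel_left _ _).symm⟩
  · rintro n p hp ⟨q, hq⟩
    obtain ⟨y, hy⟩ := (ClassMod.injective_homologyMap_iff φ (n + 1 + 1) n (by simp) (by simp)).mp
      (hbij (n + 1)).1 p hp ⟨q, hq⟩
    exact ⟨y, hy⟩
  · intro n q hq
    obtain ⟨p, y, hp, hy⟩ := (ClassMod.surjective_homologyMap_iff φ (n + 1 + 1) n (by simp)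
      (by simp)).mp (hbij (n + 1)).2 q hq
    exact ⟨p, hp, y, by rw [← hy]; exact (add_sub_cancel_left _ _).symm⟩

end Iso

theorem tor_iso_main [IsNoetherianRing A] {M N : ModuleCat.{u} A} (u : M ⟶ N)
    (h : ∀ (x : Ideal A) [x.IsPrime] (i : ℕ),
      IsIso (((Tor (ModuleCat.{u} A) i).obj (ModuleCat.of A x.ResidueField)).map u)) :
    IsIso u := by
  let P := projectiveResolution M
  let Q := projectiveResolution N
  let φ : P.complex ⟶ Q.complex := ProjectiveResolution.lift u P Q
  have hφ : φ.f 0 ≫ Q.π.f 0 = P.π.f 0 ≫ u := by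
    have := HomologicalComplex.congr_hom (ProjectiveResolution.lift_commutes u P Q) 0
    rw [HomologicalComplex.comp_f, HomologicalComplex.comp_f, ChainComplex.single₀_map_f_zero] at this
    exact this
  haveI : ∀ i, Module.Flat A (P.complex.X i) := fun i => flat_of_projective _
  haveI : ∀ i, Module.Flat A (Q.complex.X i) := fun i => flat_of_projective _
  -- exactness of the cone after tensoring with the residue fields
  have h1 : ∀ (x : Ideal A) [x.IsPrime] (j : ℕ), 0 ≤ j →
      TorDev.Ex (TorCone.D (dl P.complex) (dl Q.complex) (fl φ)) j x.ResidueField := by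
    intro x _ j _
    rw [TorCone.ex_iff]
    let X : ModuleCat.{u} A := ModuleCat.of A x.ResidueField
    let T := (tensoringLeft (ModuleCat.{u} A)).obj X
    let φX : tc X P.complex ⟶ tc X Q.complex :=
      (T.mapHomologicalComplex (ComplexShape.down ℕ)).map φ
    have hbij : ∀ i, Function.Bijective (HomologicalComplex.homologyMap φX i) := by
      intro i
      have h2 := ProjectiveResolution.isoLeftDerivedObj_hom_naturality u P Q φ hφ T i
      have h0 : IsIso ((T.leftDerived i).map u) := h x i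
      have h3 : HomologicalComplex.homologyMap φX i =
          (P.isoLeftDerivedObj T i).inv ≫ (T.leftDerived i).map u ≫
            (Q.isoLeftDerivedObj T i).hom := by
        rw [h2, Iso.inv_hom_id_assoc]
        rfl
      have h4 : IsIso (HomologicalComplex.homologyMap φX i) := by
        rw [h3]
        exact @IsIso.comp_isIso _ _ _ _ _ _ _ inferInstance
          (@IsIso.comp_isIso _ _ _ _ _ _ _ h0 inferInstance)
      exact (ConcreteCategory.isIso_iff_bijective _).mp h4
    exact exact_cone φX hbij j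
  have h2 : ∀ j, Function.Exact (TorCone.D (dl P.complex) (dl Q.complex) (fl φ) (j + 1))
      (TorCone.D (dl P.complex) (dl Q.complex) (fl φ) j) := fun j =>
    TorDev.ex_self _ j (TorDev.ex_of_residueField (TorCone.DD (dl_comp P.complex)
      (dl_comp Q.complex) (fl_comm φ)) 0 h1 A j (Nat.zero_le j))
  -- the augmentations
  have hπ : ∀ {Z : ModuleCat.{u} A} (R : ProjectiveResolution Z), ∃ ε : R.complex.X 0 →ₗ[A] Z,
      ε = (R.π.f 0).hom ∧ Function.Surjective ε ∧ Function.Exact (dl R.complex 0) ε := by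
    intro Z R
    refine ⟨(R.π.f 0).hom, rfl, ?_, ?_⟩
    · exact (ModuleCat.epi_iff_surjective (R.π.f 0)).mp inferInstance
    · exact (ShortComplex.ShortExact.moduleCat_exact_iff_function_exact _).mp R.exact₀
  obtain ⟨εP, hεP, hPs, hPe⟩ := hπ P
  obtain ⟨εQ, hεQ, hQs, hQe⟩ := hπ Q
  have hcomm : ∀ p, εQ (fl φ 0 p) = u.hom (εP p) := by
    intro p
    rw [hεP, hεQ]
    have := congrArg (fun f => ModuleCat.Hom.hom f p) hφ
    exact this
  have hbij : Function.Bijective u.hom := by
    constructor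
    · rw [injective_iff_map_eq_zero]
      intro m hm
      obtain ⟨p, rfl⟩ := hPs m
      rw [← hcomm] at hm
      obtain ⟨q, hq⟩ := (hQe _).mp hm
      obtain ⟨⟨q2, r⟩, hy⟩ := ((h2 1) (show TorCone.C _ _ 2 from (-q, p))).mp (by
        change dl Q.complex 0 (-q) + fl φ 0 p = 0
        rw [map_neg, hq]
        exact neg_add_cancel _)
      have h5 : -(dl P.complex 0 r) = p := congrArg Prod.snd hy
      refine (hPe p).mpr ⟨-r, ?_⟩
      rw [map_neg, h5]
    · intro n
      obtain ⟨q, rfl⟩ := hQs n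
      obtain ⟨⟨q1, p⟩, hy⟩ := ((h2 0) (show TorCone.C _ _ 1 from q)).mp rfl
      have hy' : dl Q.complex 0 q1 + fl φ 0 p = q := hy
      refine ⟨εP p, ?_⟩
      rw [← hcomm, ← hy', map_add, (hQe _).mpr ⟨q1, rfl⟩, zero_add]
  exact (ConcreteCategory.isIso_iff_bijective u).mpr hbij

end K67.TorMain
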